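import Cfsg.Agent.Lib.Lie.Chev.E8Spectrum.Solve

/-! The normal forms modulo thirteen and the certificates for vectors modulo 91. -/

set_option autoImplicit false
set_option maxRecDepth 100000
set_option maxHeartbeats 400000

namespace Cfsg.Agent.Lie.Chev.E8Spectrum

/-- The normal forms needing an element of order 91. -/
def forms13 : List (List ℕ) := [[1, 1, 0, 0, 1, 0, 0, 1], [1, 0, 0, 0, 0, 1, 1, 1], [2, 0, 0, 0, 0, 1, 0, 0]]

/-- The remaining normal forms, each with its certificate. -/
def others13 : List (List ℕ × Weight) := [
  ([0, 0, 0, 0, 0, 0, 1, 2], ⟨0x20000020202020000020001, 0, 0, 1⟩),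
  ([0, 0, 0, 0, 0, 0, 2, 3], ⟨0x3000303000000000303000301, 1, 0, 0⟩),
  ([3, 0, 0, 0, 0, 1, 1, 0], ⟨0x3000303000000000303000301, 1, 0, 0⟩)]

/-- The certificates. -/
def grps91 : List (List (Weight × List ℕ)) := [
  [(⟨0x2000204020002000202000400020200040000000200000000000202040200020000020400000004020200020202020002020400000004020000020002040202000000000002000000040002020004000202000200020402000201, 1, 0, 0⟩, [120, 136])],
  [(⟨0x60606080206080206060208000a02080806020608080802080006080806060202020a0806080008020a0802020202080a0208000806080a02020206060808060008020808080602060808020a0008020606020806020806060605, 5, 0, 0⟩, [120, 136])],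
  [(⟨0x3a003a0c2f00391b3a3a1b0c19212f220c001b003922221b22193a390c3a002f1b1b210c0022190c2f21222f2f2f2f22212f0c1922000c211b1b2f003a0c393a19221b222239001b000c222f21190c1b3a3a1b39002f0c3a003a1d, 29, 0, 0⟩, [120, 136])],
  [(⟨0x4c6c4c525e6e00604c4c645798005740566e626a003e486048984c00564c6a5a626400526c4098515d004a565a5a564a005d5198406c520064625a6a4c56004c984860483e006a626e564057009857644c4c60006e5e524c6c4c4c, 76, 0, 0⟩, [120, 136])],
  [(⟨0x160000162210100000100c00250a10031f101f0310101019000010030022191010190022160d00161c1013161613101c16000d1622001910101922000310000019101010031f101f03100a25000c100000101022160000160032, 28, 34, 0⟩, [120]), (⟨0xa180a001818180e0a0a0e000018181800180e18090e180e14180a00000a18180e0e0800181d0f0018132718181818271318000f1d1800080e0e18180a00000a18140e180e09180e180018181800000e0a0a0e181818000a180a18, 8, 0, 8⟩, [136])]]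

theorem kac13_ok : kacFrom 13 (forms13 ++ others13.map Prod.fst) marks 13 [] = true := by
  decide +kernel

theorem others13_ok : (others13.all fun q =>
    repOk 6 13 q.2 && symOk 13 13 q.2 && tgtOk 13 q.2 q.1 [120, 136]) = true := by decide +kernel

theorem grps91_ok : (grps91.all (grpOk 6 (13 * 7) [120, 136])) = true := by decide +kernel

end Cfsg.Agent.Lie.Chev.E8Spectrum
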