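import Cfsg.Agent.Lib.Lie.Chev.E8Spectrum.Search

/-! The congruences satisfied by a lifted vector, solved by a given left inverse, and the check that
every solution is excluded by a certificate. -/

set_option autoImplicit false
set_option maxRecDepth 100000
set_option maxHeartbeats 400000

namespace Cfsg.Agent.Lie.Chev.E8Spectrum

open Cfsg.Lie

local notation "c" => certFullE8

/-- All value lists. -/
def assigns (p : ℕ) : ℕ → List (List ℕ)
  | 0 => [[]]
  | n + 1 => (List.range p).flatMap fun a => (assigns p n).map fun L => a :: L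

theorem mem_assigns {p : ℕ} : ∀ {L : List ℕ}, (∀ a ∈ L, a < p) → L ∈ assigns p L.length
  | [], _ => by simp [assigns]
  | a :: L, h => by
    simp only [List.length_cons, assigns, List.mem_flatMap, List.mem_range, List.mem_map]
    exact ⟨a, h a (by simp), L, mem_assigns fun b hb => h b (by simp [hb]), rfl⟩

/-- The value assigned to a coordinate. -/
def pick : List ℕ → List ℕ → ℕ → ℕ
  | f :: fr, a :: vals, i => bif Nat.beq i f then a else pick fr vals i
  | _, _, _ => 0

theorem pick_map (g : ℕ → ℕ) {i : ℕ} : ∀ {fr : List ℕ}, i ∈ fr → pick fr (fr.map g) i = g i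
  | [], h => by simp at h
  | f :: fr, h => by
    rw [List.map_cons, pick]
    rcases Nat.decEq i f with hne | rfl
    · rw [Bool.eq_false_iff.2 fun e => hne (Nat.beq_eq.mp e), cond_false]
      exact pick_map g ((List.mem_cons.1 h).resolve_left hne)
    · rw [Nat.beq_refl, cond_true]

/-- An entry of the left inverse. -/
def rEnt (rows i j : ℕ) : ℕ := Nat.mod (Nat.shiftRight rows (Nat.mul 4 (Nat.add (Nat.mul 8 i) j))) 16

/-- The constant part of a row. -/
def addRow (p j : ℕ) : ℕ :=
  encR ((List.range 8).map fun k => (8 * p - 8) - bif Nat.beq (7 - k) j then 3 else 0)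

/-- A combination of the rows. -/
def comb (p rows : ℕ) (f : List ℕ) (i : ℕ) : ℕ :=
  rEnt rows i 0 * (bAt (f.getD 0 0) + addRow p 0) + rEnt rows i 1 * (bAt (f.getD 1 0) + addRow p 1) +
  rEnt rows i 2 * (bAt (f.getD 2 0) + addRow p 2) + rEnt rows i 3 * (bAt (f.getD 3 0) + addRow p 3) +
  rEnt rows i 4 * (bAt (f.getD 4 0) + addRow p 4) + rEnt rows i 5 * (bAt (f.getD 5 0) + addRow p 5) +
  rEnt rows i 6 * (bAt (f.getD 6 0) + addRow p 6) + rEnt rows i 7 * (bAt (f.getD 7 0) + addRow p 7)

/-- A right hand side. -/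
def rhsAt (r p : ℕ) (z f : List ℕ) (j : ℕ) : ℕ :=
  (3 * z.getD j 0 + 8 * z.sum + 64 * (r * p) - dot (bAt (f.getD j 0)) (encR z)) / r % p

/-- A transformed right hand side. -/
def rhsComb (r p rows : ℕ) (z f : List ℕ) (i : ℕ) : ℕ :=
  rEnt rows i 0 * rhsAt r p z f 0 + rEnt rows i 1 * rhsAt r p z f 1 +
  rEnt rows i 2 * rhsAt r p z f 2 + rEnt rows i 3 * rhsAt r p z f 3 +
  rEnt rows i 4 * rhsAt r p z f 4 + rEnt rows i 5 * rhsAt r p z f 5 +
  rEnt rows i 6 * rhsAt r p z f 6 + rEnt rows i 7 * rhsAt r p z f 7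

/-- The contribution of the free coordinates. -/
def freeSum (p cm : ℕ) : List ℕ → List ℕ → ℕ
  | f :: fr, a :: vals => (p - dig cm f % p) * a + freeSum p cm fr vals
  | _, _ => 0

/-- The coordinate of a solution. -/
def solAt (r p rows : ℕ) (z f fr vals : List ℕ) (i : ℕ) : ℕ :=
  bif fr.any (Nat.beq i) then pick fr vals i
  else (rhsComb r p rows z f i + freeSum p (comb p rows f i) fr vals) % p

/-- A lifted vector. -/
def liftSol (r p rows : ℕ) (z f fr vals : List ℕ) : List ℕ :=
  (List.range 8).map fun i => (z.getD i 0 + r * solAt r p rows z f fr vals i) % (r * p)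

/-- The left inverse inverts off the free coordinates. -/
def invOk (p rows : ℕ) (f fr : List ℕ) : Bool :=
  decide (((List.range 8).filter fun i => fr.any (Nat.beq i)) = fr) &&
  (List.range 8).all fun i => fr.any (Nat.beq i) ||
    (List.range 8).all fun k => fr.any (Nat.beq k) ||
      Nat.beq (dig (comb p rows f i) k % p) (bif Nat.beq i k then 1 else 0)

/-- The data of one element: the images of the fundamental roots, a left inverse, free coordinates, and the certificate of each solution. -/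
structure Leaf where
  /-- images -/
  imgs : List ℕ
  /-- packed left inverse -/
  rows : ℕ
  /-- free coordinates -/
  free : List ℕ
  /-- certificates -/
  ids : List ℕ

/-- Two lists match entry by entry. -/
def all2 {α β : Type*} (P : α → β → Bool) : List α → List β → Bool
  | [], [] => true
  | a :: l, b :: l' => P a b && all2 P l l'
  | _, _ => false

theorem all2_spec {α β : Type*} {P : α → β → Bool} : ∀ {l : List α} {l' : List β},
    all2 P l l' = true → ∀ b ∈ l', ∃ a ∈ l, P a b = true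
  | [], [], _, b, hb => by simp at hb
  | [], _ :: _, h, _, _ => by simp [all2] at h
  | _ :: _, [], h, _, _ => by simp [all2] at h
  | a :: l, b' :: l', h, b, hb => by
    simp only [all2, Bool.and_eq_true] at h
    rcases List.mem_cons.1 hb with rfl | hb
    · exact ⟨a, by simp, h.1⟩
    · obtain ⟨a', ha', e⟩ := all2_spec h.2 b hb
      exact ⟨a', by simp [ha'], e⟩

/-- The certificates of a group hold and cover all fixed dimensions. -/
noncomputable def grpOk (k m : ℕ) (nfs : List ℕ) (G : List (Weight × List ℕ)) : Bool :=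
  (G.all fun q => repOk k m q.1 && symOk m m q.1) && nfs.all fun n => G.any fun q => q.2.any (Nat.beq n)

/-- A solution is a multiple of `p` or excluded by a group. -/
noncomputable def exclOk (r p : ℕ) (grps : List (List (Weight × List ℕ))) (id : ℕ) (z : List ℕ) : Bool :=
  bif Nat.beq id 0 then z.all fun a => Nat.beq (a % p) 0
  else Nat.ble id grps.length && (grps.getD (id - 1) []).all fun q => tgtOk (r * p) q.1 z q.2

/-- All solutions for one element are excluded. -/
noncomputable def leafOk (r p : ℕ) (z : List ℕ) (grps : List (List (Weight × List ℕ))) (L : Leaf) :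
    Bool :=
  invOk p L.rows L.imgs L.free &&
    all2 (exclOk r p grps) L.ids ((assigns p L.free.length).map (liftSol r p L.rows z L.imgs L.free))

theorem freeSum_eq (p cm : ℕ) (u : ℕ → ℕ) : ∀ fr : List ℕ,
    freeSum p cm fr (fr.map u) = (fr.map fun k => (p - dig cm k % p) * u k).sum
  | [] => rfl
  | f :: fr => by rw [List.map_cons, freeSum, freeSum_eq p cm u fr]; rfl

theorem dig_enc (a b d e g h i j : ℕ) (ha : a < 65536) (hb : b < 65536) (hd : d < 65536)
    (he : e < 65536) (hg : g < 65536) (hh : h < 65536) (hi : i < 65536) (hj : j < 65536)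
    {n : ℕ} (hn : n = a + b * 2 ^ 16 + d * 2 ^ 32 + e * 2 ^ 48 + g * 2 ^ 64 + h * 2 ^ 80 +
      i * 2 ^ 96 + j * 2 ^ 112) {k : ℕ} (hk : k < 8) :
    dig n k = [a, b, d, e, g, h, i, j].getD k 0 := by
  subst hn
  interval_cases k <;>
    simp only [dig_def, Nat.shiftRight_eq_div_pow, List.getD_cons_zero, List.getD_cons_succ] <;>
    norm_num <;> omega

theorem rEnt_le (rows i j : ℕ) : rEnt rows i j ≤ 15 :=
  Nat.le_of_lt_succ (Nat.mod_lt _ (by norm_num))

/-- The digits of a combination. -/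
theorem comb_dig {p : ℕ} (hp : 2 ≤ p) (hp' : p ≤ 13) (rows : ℕ) {f : List ℕ}
    (hf : ∀ j < 8, f.getD j 0 < 240) (i : ℕ) {k : ℕ} (hk : k < 8) :
    dig (comb p rows f i) k = ∑ j ∈ Finset.range 8,
      rEnt rows i j * (dig (bAt (f.getD j 0)) k + ((8 * p - 8) - if k = j then 3 else 0)) := by
  obtain ⟨t, ht⟩ : ∃ t : ℕ → ℕ → ℕ, ∀ j k, t j k =
      rEnt rows i j * (dig (bAt (f.getD j 0)) k + ((8 * p - 8) - if k = j then 3 else 0)) :=
    ⟨_, fun _ _ => rfl⟩
  have hadd : ∀ j < 8, addRow p j = ((8 * p - 8) - if 0 = j then 3 else 0) +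
      ((8 * p - 8) - if 1 = j then 3 else 0) * 2 ^ 16 + ((8 * p - 8) - if 2 = j then 3 else 0) * 2 ^ 32 +
      ((8 * p - 8) - if 3 = j then 3 else 0) * 2 ^ 48 + ((8 * p - 8) - if 4 = j then 3 else 0) * 2 ^ 64 +
      ((8 * p - 8) - if 5 = j then 3 else 0) * 2 ^ 80 + ((8 * p - 8) - if 6 = j then 3 else 0) * 2 ^ 96 +
      ((8 * p - 8) - if 7 = j then 3 else 0) * 2 ^ 112 := by
    intro j hj
    rw [addRow]
    simp only [List.range_succ, List.range_zero, List.nil_append, List.cons_append, List.map_cons,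
      List.map_nil]
    rw [encR_eight]
    interval_cases j <;> simp [cond_eq_if]
  have hbd : ∀ j < 8, ∀ k < 8, t j k ≤ 1800 := by
    intro j hj k hk
    rw [ht]
    have h1 := (bAt_spec _ (hf j hj) k hk).1
    exact le_trans (Nat.mul_le_mul (rEnt_le rows i j)
      (show dig (bAt (f.getD j 0)) k + ((8 * p - 8) - if k = j then 3 else 0) ≤ 120 by
        split_ifs <;> omega)) (by norm_num)
  have hrow : ∀ j < 8, rEnt rows i j * (bAt (f.getD j 0) + addRow p j) = t j 0 + t j 1 * 2 ^ 16 +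
      t j 2 * 2 ^ 32 + t j 3 * 2 ^ 48 + t j 4 * 2 ^ 64 + t j 5 * 2 ^ 80 + t j 6 * 2 ^ 96 +
      t j 7 * 2 ^ 112 := by
    intro j hj
    rw [hadd j hj, ht, ht, ht, ht, ht, ht, ht, ht]
    conv_lhs => rw [digits_eq (bAt_lt (f.getD j 0))]
    ring
  have hsum : ∀ k < 8, ∑ j ∈ Finset.range 8, t j k < 65536 := fun k hk =>
    lt_of_le_of_lt (Finset.sum_le_card_nsmul _ _ 1800 fun j hj => hbd j (Finset.mem_range.1 hj) k hk)
      (by norm_num)
  have hn : comb p rows f i = (∑ j ∈ Finset.range 8, t j 0) + (∑ j ∈ Finset.range 8, t j 1) * 2 ^ 16 +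
      (∑ j ∈ Finset.range 8, t j 2) * 2 ^ 32 + (∑ j ∈ Finset.range 8, t j 3) * 2 ^ 48 +
      (∑ j ∈ Finset.range 8, t j 4) * 2 ^ 64 + (∑ j ∈ Finset.range 8, t j 5) * 2 ^ 80 +
      (∑ j ∈ Finset.range 8, t j 6) * 2 ^ 96 + (∑ j ∈ Finset.range 8, t j 7) * 2 ^ 112 := by
    rw [comb, hrow 0 (by omega), hrow 1 (by omega), hrow 2 (by omega), hrow 3 (by omega),
      hrow 4 (by omega), hrow 5 (by omega), hrow 6 (by omega), hrow 7 (by omega)]
    simp only [Finset.sum_range_succ, Finset.sum_range_zero]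
    ring
  simp only [← ht]
  rw [dig_enc _ _ _ _ _ _ _ _ (hsum 0 (by omega)) (hsum 1 (by omega)) (hsum 2 (by omega))
    (hsum 3 (by omega)) (hsum 4 (by omega)) (hsum 5 (by omega)) (hsum 6 (by omega))
    (hsum 7 (by omega)) hn hk]
  interval_cases k <;> rfl

/-- Every lift is one of the solutions. -/
theorem liftSol_spec {r p : ℕ} (hr : 0 < r) (hp : 2 ≤ p) (hp' : p ≤ 13) (hm : r * p ≤ 256)
    {z f : List ℕ} (hl : z.length = 8) (hz : ∀ a ∈ z, a < r) (hf : ∀ j < 8, f.getD j 0 < 240)
    {rows : ℕ} {fr : List ℕ} (hinv : invOk p rows f fr = true) {u : ℕ → ℕ} (hu : ∀ j < 8, u j < p)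
    (heq : ∀ j < 8, fval (fun i => zI z i + r * u i) (f.getD j 0) ≡
      3 * (zI z j + r * u j) [ZMOD (r * p : ℕ)]) :
    fr.map u ∈ assigns p fr.length ∧
      ∀ i < 8, solAt r p rows z f fr (fr.map u) i = u i := by
  simp only [invOk, Bool.and_eq_true, decide_eq_true_eq, List.all_eq_true, List.mem_range,
    Bool.or_eq_true, Nat.beq_eq] at hinv
  obtain ⟨hfr, hinv⟩ := hinv
  have hmem : ∀ i, fr.any (Nat.beq i) = true ↔ i ∈ fr := fun i => by simp
  have hlt : ∀ i ∈ fr, i < 8 := fun i hi => by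
    rw [← hfr, List.mem_filter] at hi
    exact List.mem_range.1 hi.1
  refine ⟨by
    have := mem_assigns (p := p) (L := fr.map u) fun a ha => by
      obtain ⟨i, hi, rfl⟩ := List.mem_map.1 ha
      exact hu i (hlt i hi)
    rwa [List.length_map] at this, fun i hi => ?_⟩
  by_cases hif : fr.any (Nat.beq i) = true
  · rw [solAt, hif, cond_true, pick_map u ((hmem i).1 hif)]
  rw [solAt, Bool.eq_false_iff.2 hif, cond_false]
  haveI : NeZero p := ⟨by omega⟩
  -- the congruences
  obtain ⟨A, hA⟩ : ∃ A : ℕ → ℕ → ZMod p, ∀ j k, A j k =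
      (((c).T.vec (f.getD j 0) k - if k = j then 3 else 0 : ℤ) : ZMod p) := ⟨_, fun _ _ => rfl⟩
  have hlin : ∀ j < 8, ∑ k ∈ Finset.range 8, A j k * (u k : ZMod p) =
      (rhsAt r p z f j : ZMod p) := by
    intro j hj
    have hdot := dot_vec (m := r) (le_trans (Nat.le_mul_of_pos_right r (by omega)) hm) hl hz (hf j hj)
    have h2 : fval (fun i => zI z i + r * u i) (f.getD j 0) = fval (fun i => (z.getD i 0 : ℤ))
        (f.getD j 0) + r * ∑ k ∈ Finset.range 8, (c).T.vec (f.getD j 0) k * u k := by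
      simp only [fval, zI, Finset.mul_sum, ← Finset.sum_add_distrib]
      exact Finset.sum_congr rfl fun k _ => by ring
    have hle : dot (bAt (f.getD j 0)) (encR z) ≤ 3 * z.getD j 0 + 8 * z.sum + 64 * (r * p) := by
      have h1 : dot (bAt (f.getD j 0)) (encR z) ≤ 128 * r := by
        rw [dot_spec (bAt_lt _) (fun i hi => (bAt_spec _ (hf j hj) i hi).1) z hl
          (fun a ha => lt_of_lt_of_le (hz a ha)
            (le_trans (Nat.le_mul_of_pos_right r (by omega)) hm))]
        refine (Finset.sum_le_card_nsmul _ _ (16 * r) fun i hi => Nat.mul_le_mul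
          (bAt_spec _ (hf j hj) i (Finset.mem_range.1 hi)).1.le ?_).trans (by simp; omega)
        rw [List.getD_eq_getElem _ _ (by rw [hl]; exact Finset.mem_range.1 hi)]
        exact (hz _ (List.getElem_mem _)).le
      have : 2 * r ≤ r * p := by rw [mul_comm]; exact Nat.mul_le_mul_left r hp
      omega
    obtain ⟨N, hN⟩ : ∃ N, N = 3 * z.getD j 0 + 8 * z.sum + 64 * (r * p) -
        dot (bAt (f.getD j 0)) (encR z) := ⟨_, rfl⟩
    have hNz : (N : ℤ) = 3 * zI z j - fval (fun i => (z.getD i 0 : ℤ)) (f.getD j 0) +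
        64 * ((r : ℤ) * p) := by
      rw [hN, Nat.cast_sub hle, hdot, zI]
      push_cast
      ring
    have hd := Int.modEq_iff_dvd.1 (heq j hj)
    rw [h2, Nat.cast_mul] at hd
    obtain ⟨q, hq⟩ := hd
    have hfe : (3 * zI z j - fval (fun i => (z.getD i 0 : ℤ)) (f.getD j 0)) = (r : ℤ) *
        ((p : ℤ) * q + (∑ k ∈ Finset.range 8, (c).T.vec (f.getD j 0) k * u k) - 3 * u j) := by
      linarith [hq]
    obtain ⟨q', hq'⟩ : (r : ℤ) ∣ N := ⟨(p : ℤ) * q +
        (∑ k ∈ Finset.range 8, (c).T.vec (f.getD j 0) k * u k) - 3 * u j + 64 * p, by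
      rw [hNz, hfe]; ring⟩
    have hq2 : q' = (p : ℤ) * q + (∑ k ∈ Finset.range 8, (c).T.vec (f.getD j 0) k * u k) -
        3 * u j + 64 * p := by
      refine mul_left_cancel₀ (show (r : ℤ) ≠ 0 by omega) ?_
      rw [← hq', hNz, hfe]
      ring
    have hdiv : ((N / r : ℕ) : ℤ) = q' := by
      rw [Int.natCast_div, hq', Int.mul_ediv_cancel_left _ (by omega)]
    rw [rhsAt, ← hN, ZMod.natCast_mod, ← Int.cast_natCast (N / r), hdiv, hq2]
    push_cast
    rw [ZMod.natCast_self]
    simp only [hA, Int.cast_sub, sub_mul, Finset.sum_sub_distrib]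
    rw [Finset.sum_eq_single j (s := Finset.range 8)
      (f := fun k => ((if k = j then (3 : ℤ) else 0 : ℤ) : ZMod p) * (u k : ZMod p))
      (fun k _ hk => by simp [hk]) (fun h => absurd (Finset.mem_range.2 hj) h)]
    simp
  have hdigA : ∀ k < 8, (dig (comb p rows f i) k : ZMod p) =
      ∑ j ∈ Finset.range 8, (rEnt rows i j : ZMod p) * A j k := by
    intro k hk
    rw [comb_dig hp hp' rows hf i hk, Nat.cast_sum]
    refine Finset.sum_congr rfl fun j hj => ?_
    have h1 := (bAt_spec _ (hf j (Finset.mem_range.1 hj)) k hk).2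
    rw [Nat.cast_mul, hA]
    refine congrArg _ ?_
    have e : ((dig (bAt (f.getD j 0)) k + ((8 * p - 8) - if k = j then 3 else 0) : ℕ) : ℤ) =
        ((c).T.vec (f.getD j 0) k - if k = j then 3 else 0) + 8 * (p : ℤ) := by
      split_ifs <;> omega
    rw [← Int.cast_natCast (dig (bAt (f.getD j 0)) k + _), e]
    push_cast
    rw [ZMod.natCast_self]
    ring
  have hmain : (rhsComb r p rows z f i : ZMod p) =
      ∑ k ∈ Finset.range 8, (dig (comb p rows f i) k : ZMod p) * (u k : ZMod p) := by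
    rw [Finset.sum_congr rfl fun k hk => by rw [hdigA k (Finset.mem_range.1 hk), Finset.sum_mul],
      Finset.sum_comm]
    rw [Finset.sum_congr rfl fun j hj => show (∑ k ∈ Finset.range 8,
        (rEnt rows i j : ZMod p) * A j k * (u k : ZMod p)) =
        (rEnt rows i j : ZMod p) * (rhsAt r p z f j : ZMod p) by
      rw [← hlin j (Finset.mem_range.1 hj), Finset.mul_sum]
      exact Finset.sum_congr rfl fun k _ => by ring]
    simp [rhsComb, Finset.sum_range_succ]
  have hsplit : ∑ k ∈ Finset.range 8, (dig (comb p rows f i) k : ZMod p) * (u k : ZMod p) =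
      (u i : ZMod p) + (fr.map fun k => (dig (comb p rows f i) k : ZMod p) * (u k : ZMod p)).sum := by
    have hS : fr.toFinset = (Finset.range 8).filter fun k => k ∈ fr := by
      ext k; simp only [List.mem_toFinset, Finset.mem_filter, Finset.mem_range]
      exact ⟨fun h => ⟨hlt k h, h⟩, fun h => h.2⟩
    have hnd : fr.Nodup := hfr ▸ List.nodup_range.filter _
    rw [← List.sum_toFinset _ hnd, hS, ← Finset.sum_filter_add_sum_filter_not (Finset.range 8)
      (fun k => k ∈ fr), add_comm]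
    refine congrArg₂ (· + ·) ?_ rfl
    rw [Finset.sum_eq_single i]
    · have h := (hinv i hi).resolve_left hif
      have h' := (h i hi).resolve_left hif
      rw [Nat.beq_refl, cond_true] at h'
      rw [show ((dig (comb p rows f i) i : ℕ) : ZMod p) = 1 by
        rw [← ZMod.natCast_mod, h', Nat.cast_one], one_mul]
    · intro k hk hki
      obtain ⟨hk8, hkf⟩ := Finset.mem_filter.1 hk
      have h := (hinv i hi).resolve_left hif
      have h' := (h k (Finset.mem_range.1 hk8)).resolve_left fun e => hkf ((hmem k).1 e)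
      rw [Bool.eq_false_iff.2 fun e => hki (Nat.beq_eq.mp e).symm, cond_false] at h'
      rw [show ((dig (comb p rows f i) k : ℕ) : ZMod p) = 0 by
        rw [← ZMod.natCast_mod, h', Nat.cast_zero], zero_mul]
    · exact fun h => absurd (Finset.mem_filter.2 ⟨Finset.mem_range.2 hi, fun e => hif ((hmem i).2 e)⟩) h
  have hval : ((rhsComb r p rows z f i + freeSum p (comb p rows f i) fr (fr.map u) : ℕ) : ZMod p) =
      (u i : ZMod p) := by
    rw [Nat.cast_add, hmain, hsplit, freeSum_eq, Nat.cast_list_sum, List.map_map, add_assoc,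
      ← List.sum_map_add]
    refine add_eq_left.2 (List.sum_eq_zero fun x hx => ?_)
    obtain ⟨k, -, rfl⟩ := List.mem_map.1 hx
    simp only [Function.comp_apply, Nat.cast_mul]
    rw [Nat.cast_sub (Nat.mod_lt _ (by omega)).le, ZMod.natCast_self, ZMod.natCast_mod]
    ring
  have := congrArg ZMod.val hval
  rwa [ZMod.val_natCast, ZMod.val_natCast_of_lt (hu i hi)] at this

/-- A vector lifting a normal form, with the spectrum of products, is excluded. -/
theorem false_of_leaves {k r p : ℕ} (hr : 0 < r) (hp : 2 ≤ p) (hp' : p ≤ 13) (hm : r * p ≤ 256)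
    {z nfs : List ℕ} (hl : z.length = 8) (hz : ∀ a ∈ z, a < r)
    {grps : List (List (Weight × List ℕ))} {leaves : List Leaf}
    (hg : (grps.all (grpOk k (r * p) nfs)) = true)
    (hse : search r z 3 = leaves.map Leaf.imgs) (hok : ∀ L ∈ leaves, leafOk r p z grps L = true)
    {v : ℕ → ℤ}
    (hv : ∀ j < 8, v j ≡ zI z j [ZMOD r]) (htw : Twisted (r * p) v) {l : List (List ℕ)} {nf : ℕ}
    {n : ℕ} (hn : n ∈ nfs) (hnf : n = nf ∨ ∀ G ∈ grps, ∀ q ∈ G, q.1.mp = 0 ∧ q.1.mn = 0)
    (hfit : Fits k (r * p) l v nf) (hne : ¬ ∀ j < 8, v j ≡ 0 [ZMOD p]) : False := by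
  obtain ⟨W, hW, hWs⟩ := htw
  have hsl : ∀ q < 8, (c).T.simple q < 240 := fun q hq => (c).simple_eq hq ▸ (c).simple_lt hq
  obtain ⟨f, hf⟩ : ∃ f, f = (List.range 8).map fun q => (c).wl W ((c).T.simple q) := ⟨_, rfl⟩
  have hfget : ∀ j < 8, f.getD j 0 = (c).wl W ((c).T.simple j) := fun j hj => by
    rw [hf, List.getD_eq_getElem _ _ (by simp [hj])]
    simp
  have hflt : ∀ j < 8, f.getD j 0 < 240 := fun j hj => hfget j hj ▸ (c).wl_lt hW (hsl j hj)
  have hmemf : f ∈ search r z 3 := hf ▸ images_mem hr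
    (le_trans (Nat.le_mul_of_pos_right r (by omega)) hm) hl hz hW fun j hj => by
      have h := (hWs _ (hsl j hj)).of_dvd (Int.natCast_dvd_natCast.2 (dvd_mul_right r p))
      rw [fval_simple v hj] at h
      exact ((fval_congr (fun i hi => (hv i hi).symm) _).trans h).trans ((hv j hj).mul_left 3)
  rw [hse, List.mem_map] at hmemf
  obtain ⟨L, hLm, hLf⟩ := hmemf
  have hL := hok L hLm
  rw [leafOk, hLf, Bool.and_eq_true] at hL
  obtain ⟨hinv, hall⟩ := hL
  -- the lift
  obtain ⟨u, hu⟩ : ∃ u : ℕ → ℕ, ∀ j, u j = (((v j - zI z j) / (r : ℤ)) % (p : ℤ)).toNat :=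
    ⟨_, fun _ => rfl⟩
  have hp0 : (p : ℤ) ≠ 0 := by omega
  have hult : ∀ j < 8, u j < p := fun j _ => by
    have := Int.emod_lt_of_pos ((v j - zI z j) / (r : ℤ)) (show (0 : ℤ) < p by omega)
    rw [hu]
    omega
  have hlift : ∀ j < 8, v j ≡ zI z j + r * u j [ZMOD (r * p : ℕ)] := fun j hj => by
    obtain ⟨w, hw⟩ := Int.modEq_iff_dvd.1 (hv j hj).symm
    rw [hu, Int.toNat_of_nonneg (Int.emod_nonneg _ hp0), hw, Int.mul_ediv_cancel_left _ (by omega),
      Nat.cast_mul]
    refine Int.modEq_iff_dvd.2 ⟨-(w / (p : ℤ)), ?_⟩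
    linear_combination (-1 : ℤ) * hw + (r : ℤ) * Int.mul_ediv_add_emod w (p : ℤ)
  obtain ⟨hmemA, hsol⟩ := liftSol_spec hr hp hp' hm hl hz hflt hinv hult fun j hj => by
    have h := hWs _ (hsl j hj)
    rw [fval_simple v hj, ← hfget j hj] at h
    exact ((fval_congr (fun i hi => (hlift i hi).symm) _).trans h).trans ((hlift j hj).mul_left 3)
  obtain ⟨id, -, hid⟩ := all2_spec hall _ (List.mem_map.2 ⟨_, hmemA, rfl⟩)
  obtain ⟨z', hz'⟩ : ∃ z', z' = liftSol r p L.rows z f L.free (L.free.map u) := ⟨_, rfl⟩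
  rw [← hz'] at hid
  have hzl' : z'.length = 8 := by rw [hz', liftSol]; simp
  have hm0 : 0 < r * p := Nat.mul_pos hr (by omega)
  have hzlt' : ∀ a ∈ z', a < r * p := fun a ha => by
    rw [hz', liftSol, List.mem_map] at ha
    obtain ⟨i, -, rfl⟩ := ha
    exact Nat.mod_lt _ hm0
  have hv' : ∀ j < 8, v j ≡ (z'.getD j 0 : ℤ) [ZMOD (r * p : ℕ)] := fun j hj => by
    refine (hlift j hj).trans ?_
    rw [hz', liftSol, List.getD_eq_getElem _ _ (by simp [hj])]
    simp only [List.getElem_map, List.getElem_range, hsol j hj]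
    rw [Int.natCast_mod]
    refine Int.ModEq.trans ?_ (Int.mod_modEq _ _).symm
    rw [zI]; push_cast; rfl
  rw [exclOk] at hid
  cases hb : Nat.beq id 0 with
  | true =>
    rw [hb, cond_true, List.all_eq_true] at hid
    refine hne fun j hj => ((hv' j hj).of_dvd ?_).trans (Int.modEq_zero_iff_dvd.2 ?_)
    · exact Int.natCast_dvd_natCast.2 (dvd_mul_left p r)
    · refine Int.natCast_dvd_natCast.2 (Nat.dvd_of_mod_eq_zero ?_)
      have := hid (z'.getD j 0) (by
        rw [List.getD_eq_getElem _ _ (by rw [hzl']; exact hj)]; exact List.getElem_mem _)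
      exact Nat.beq_eq.mp this
  | false =>
    rw [hb, cond_false, Bool.and_eq_true, Nat.ble_eq] at hid
    have hid0 : id ≠ 0 := fun e => by simp [e] at hb
    have hlen : id - 1 < grps.length := by omega
    rw [List.getD_eq_getElem _ _ hlen] at hid
    obtain ⟨-, hid⟩ := hid
    rw [List.all_eq_true] at hg hid
    have hG := hg _ (List.getElem_mem hlen)
    simp only [grpOk, Bool.and_eq_true, List.all_eq_true, List.any_eq_true, Nat.beq_eq] at hG
    obtain ⟨q, hq, n', hn', hnq⟩ := hG.2 n hn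
    subst hnq
    exact false_of_weight hm0 hm0 hm dvd_rfl (hG.1 q hq).1 (hG.1 q hq).2 (hid q hq) hn'
      (hnf.imp_right fun h => h _ (List.getElem_mem hlen) q hq) hzl' hzlt' hfit hv'

end Cfsg.Agent.Lie.Chev.E8Spectrum
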