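import Cfsg.Agent.Lib.Lie.Chev.E8Spectrum.Search
import Cfsg.Agent.Lib.Lie.Chev.InvolutionCentralizer
import Cfsg.Agent.Lib.Lie.Chev.OrderE8
import Cfsg.Agent.Lib.Lie.Chev.SylowTorusInst
import Cfsg.Agent.Lib.Lie.Chev.TorusConj
import Cfsg.Agent.Lib.Lie.Chev.TorusOrders

/-! Semisimple elements fixed by the Frobenius map in the group of type E₈ over a finite field of
characteristic three: exponents of their toral conjugates. -/

set_option autoImplicit false
set_option maxRecDepth 8000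
set_option maxHeartbeats 400000

namespace Cfsg.Agent.Lie.Chev.E8Spectrum

open Cfsg.Lie Matrix

local notation "c" => certFullE8

universe u

variable {L : Type u} [Field L]

theorem torus_one_of_chars {z : ℕ → Lˣ} (h : ∀ s < 240, (c).tchar z s = 1) : (c).torus z = 1 := by
  rw [Cert.torus_apply, ← map_one (dg chevE8 L)]
  exact dg_ext chevE8 L h

theorem chars_of_torus {z z' : ℕ → Lˣ} (h : (c).torus z = (c).torus z') {s : ℕ} (hs : s < 240) :
    (c).tchar z s = (c).tchar z' s := by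
  rw [Cert.torus_apply, Cert.torus_apply] at h
  exact (dg_eq_iff chevE8 L).1 h s hs

theorem tchar_one {s : ℕ} : (c).tchar (1 : ℕ → Lˣ) s = 1 := by
  rw [Cert.tchar]
  simp

/-- Powers of a toral conjugate. -/
theorem chars_pow {g x : GL chevE8.Idx L} {z : ℕ → Lˣ} (hz : g * x * g⁻¹ = (c).torus z) {n : ℕ}
    (hx : x ^ n = 1) {s : ℕ} (hs : s < 240) : (c).tchar z s ^ n = 1 := by
  rw [← (c).tchar_pow, ← tchar_one (L := L) (s := s)]
  refine chars_of_torus ?_ hs
  rw [map_pow, map_one, ← hz, conj_pow, hx, mul_one, mul_inv_cancel]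

theorem zpow_inj {b : Lˣ} {m : ℕ} (hb : orderOf b = m) {a a' : ℤ} (h : b ^ a = b ^ a') :
    a ≡ a' [ZMOD m] := hb ▸ zpow_eq_zpow_iff_modEq.1 h

theorem zpow_rz {b : Lˣ} {m : ℕ} (hm : 0 < m) (hb : orderOf b = m) (v : ℕ → ℤ) (s : ℕ) :
    b ^ fval v s = b ^ rz m v s := by
  rw [← zpow_natCast, rz_cast hm v s, zpow_eq_zpow_iff_modEq, hb]
  exact (Int.mod_modEq _ _).symm

/-- Values in a cyclic group come from an integer vector. -/
theorem exists_exps {b : Lˣ} {m : ℕ} (hm : 0 < m) (hb : orderOf b = m) {z : ℕ → Lˣ}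
    (hz : ∀ s < 240, (c).tchar z s ^ m = 1) :
    ∃ v : ℕ → ℤ, ∀ s < 240, (c).tchar z s = b ^ fval v s := by
  classical
  have hp : IsPrimitiveRoot (b : L) m := by
    have h0 := IsPrimitiveRoot.orderOf b
    rw [hb] at h0
    exact IsPrimitiveRoot.coe_units_iff.2 h0
  haveI : NeZero m := ⟨hm.ne'⟩
  have hk : ∀ s < 240, ∃ k : ℤ, (c).tchar z s = b ^ k := fun s hs => by
    obtain ⟨j, -, e⟩ := hp.eq_pow_of_pow_eq_one (ξ := ((c).tchar z s : L))
      (by rw [← Units.val_pow_eq_pow_val, hz s hs, Units.val_one])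
    exact ⟨(j : ℤ), Units.ext (by rw [zpow_natCast, Units.val_pow_eq_pow_val, e])⟩
  choose! k hk using hk
  refine ⟨fun j => k ((c).T.simple j), fun s hs => ?_⟩
  rw [(c).tchar_eq_chi z hs]
  have hsum : ∀ (S : Finset ℕ), ∏ j ∈ S, b ^ ((c).T.vec s j * k ((c).T.simple j)) =
      b ^ ∑ j ∈ S, (c).T.vec s j * k ((c).T.simple j) := by
    intro S
    induction S using Finset.induction_on with
    | empty => simp
    | insert a S ha ih => rw [Finset.prod_insert ha, Finset.sum_insert ha, ih, _root_.zpow_add]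
  rw [fval, ← hsum, Finset.prod_range]
  refine Finset.prod_congr rfl fun j _ => ?_
  show (c).tchar z (chevE8.simple j) ^ _ = _
  rw [(c).simple_eq j.2, hk _ ((c).simple_eq j.2 ▸ (c).simple_lt j.2), ← _root_.zpow_mul, mul_comm]

/-- A fixed element's exponents are multiplied by three. -/
theorem twisted_of_fixed {φ : L →+* L} (hφ : ∀ t, φ t = t ^ 3) {g x : GL chevE8.Idx L}
    (hg : g ∈ chevE8.group L) (hfix : Matrix.GeneralLinearGroup.map φ x = x) {z : ℕ → Lˣ}
    (hz : g * x * g⁻¹ = (c).torus z) {b : Lˣ} {m : ℕ} (hb : orderOf b = m) {v : ℕ → ℤ}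
    (hv : ∀ s < 240, (c).tchar z s = b ^ fval v s) : Twisted m v := by
  obtain ⟨W, hW, htw, -⟩ := (c).exists_twist hφ hg (Z := {z}) (by
    intro w hw
    rw [Set.mem_singleton_iff] at hw
    subst hw
    rw [← hz, show g⁻¹ * (g * x * g⁻¹) * g = x by group]
    exact hfix)
  have hr : ∀ p ∈ W.reverse, p < 8 := fun p hp => hW p (List.mem_reverse.1 hp)
  refine ⟨W.reverse, hr, fun s hs => zpow_inj hb ?_⟩
  have h := htw z rfl _ ((c).wl_lt hr hs)
  rw [(c).wl_reverse hW hs] at h
  rw [← hv _ ((c).wl_lt hr hs), ← h, hv s hs, ← zpow_natCast, ← _root_.zpow_mul]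
  push_cast
  rw [mul_comm]

/-- Exponents are not all divisible when the element is nontrivial. -/
theorem not_zero_of_ne {g x : GL chevE8.Idx L} {z : ℕ → Lˣ} (hz : g * x * g⁻¹ = (c).torus z) {b : Lˣ}
    {q r : ℕ} (hbq : b ^ (q * r) = 1) {v : ℕ → ℤ}
    (hv : ∀ s < 240, (c).tchar z s = b ^ fval v s) (hx : x ^ q ≠ 1) :
    ¬ ∀ j < 8, v j ≡ 0 [ZMOD r] := by
  intro h
  refine hx (conj_eq_one_iff.1 (?_ : g * x ^ q * g⁻¹ = 1))
  rw [← conj_pow, hz, ← map_pow]
  refine torus_one_of_chars fun s hs => ?_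
  have h0 := (fval_congr (v' := fun _ => 0) h s).trans (show fval (fun _ => 0) s ≡ 0 [ZMOD r] by simp [fval])
  obtain ⟨e, he⟩ := Int.modEq_zero_iff_dvd.1 h0
  rw [(c).tchar_pow, hv s hs, he, ← zpow_natCast, ← _root_.zpow_mul,
    show (r : ℤ) * e * q = ((q * r : ℕ) : ℤ) * e by push_cast; ring, _root_.zpow_mul, zpow_natCast,
    hbq, _root_.one_zpow]

/-- Moving toral exponents along a word. -/
theorem exists_move {g x : GL chevE8.Idx L} (hg : g ∈ chevE8.group L) {z : ℕ → Lˣ}
    (hz : g * x * g⁻¹ = (c).torus z) {b : Lˣ} {v : ℕ → ℤ}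
    (hv : ∀ s < 240, (c).tchar z s = b ^ fval v s) {M : List ℕ} (hM : ∀ p ∈ M, p < 8) :
    ∃ g' ∈ chevE8.group L, ∃ z' : ℕ → Lˣ, g' * x * g'⁻¹ = (c).torus z' ∧
      ∀ s < 240, (c).tchar z' s = b ^ fval (E8Spectrum.pull M v) s := by
  have hMr : ∀ p ∈ M.reverse, p < 8 := fun p hp => hM p (List.mem_reverse.1 hp)
  obtain ⟨z', hz'⟩ := (c).diagonalSubgroup_eq.le
    ((c).N_conj_H ((c).nw_mem_N (F := L) hMr) ((c).torus_mem z))
  refine ⟨(c).nw L M.reverse * g, mul_mem ((c).N_le_group ((c).nw_mem_N hMr)) hg, z', ?_,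
    fun s hs => ?_⟩
  · rw [hz', ← hz]
    group
  · rw [fval_pull v hM hs, ← hv _ ((c).wl_lt hM hs)]
    have e := (c).tchar_of_nw_conj hMr hz'.symm ((c).wl_lt hM hs)
    rw [← e]
    congr 1
    have := (c).wl_reverse (L := M.reverse) hMr hs
    rw [List.reverse_reverse] at this
    exact this.symm

variable [Fintype L]

/-- A primary element is toral when the index of the torus allows it. -/
theorem exists_toral {p : ℕ} [Fact p.Prime] (hp : ¬ p ∣ 696729600)
    (hL : ((Fintype.card L : ℕ) : ZMod p) = 1) {x : GL chevE8.Idx L} (hx : x ∈ chevE8.group L)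
    {n : ℕ} (hxo : orderOf x = p ^ n) :
    ∃ g ∈ chevE8.group L, ∃ z : ℕ → Lˣ, g * x * g⁻¹ = (c).torus z := by
  classical
  haveI : Finite ↥(chevE8.group L) := Subtype.finite
  have hT : ¬ p ∣ ((chevE8.diagonalSubgroup L).subgroupOf (chevE8.group L)).index := by
    refine (c).not_dvd_torus_index chainE8_ok chainE8_len hL ?_
    rw [CycToriInst.length_chainWords, SylowTorus.prod_values.2.2.2.2.2.2]
    exact hp
  obtain ⟨g, -, hg⟩ := (c).exists_conj_diag hT (H := ⊤) le_top
    (P := Subgroup.zpowers (⟨x, hx⟩ : ↥(chevE8.group L))) le_top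
    (IsPGroup.of_card (n := n) (by rw [Nat.card_zpowers, Subgroup.orderOf_mk, hxo]))
  obtain ⟨z, hz⟩ := (c).diagonalSubgroup_eq.le (hg _ (Subgroup.mem_zpowers _))
  exact ⟨g, g.2, z, by rw [hz]; rfl⟩

/-- An element of order seven commuting with a normalised element of order thirteen is toral beside it. -/
theorem exists_joint (hL : Fintype.card L = 729) {ζ : Lˣ} (hζ : orderOf ζ = 13) {t : List ℕ}
    (htl : t.length = 8) (ht : ∀ a ∈ t, a < 13) {E : List (List ℕ)}
    (hElt : ∀ W ∈ E, ∀ p ∈ W, p < 8)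
    (hE : (E.map fun W => simp8.map (wlF W)) = search 13 t 1)
    (hincr : incr (E.map fun W => imgKey (simp8.map (wlF W))) = true) (hlen : ¬ 7 ∣ E.length)
    {z' : ℕ → Lˣ} (hfol : ∀ s < 240, (c).tchar z' s = ζ ^ fval (zI t) s) {y : GL chevE8.Idx L}
    (hy : y ∈ chevE8.group L) (hyo : orderOf y = 7) (hcom : Commute ((c).torus z') y) :
    ∃ h ∈ chevE8.group L, Commute ((c).torus z') h ∧ ∃ zy : ℕ → Lˣ, h * y * h⁻¹ = (c).torus zy := by
  classical
  haveI : Fact (Nat.Prime 7) := ⟨by norm_num⟩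
  haveI : Finite ↥(chevE8.group L) := Subtype.finite
  have hsl : ∀ q < 8, (c).T.simple q < 240 := fun q hq => (c).simple_eq hq ▸ (c).simple_lt hq
  obtain ⟨H, hH⟩ : ∃ H : Subgroup ↥(chevE8.group L), H =
      (Subgroup.centralizer {(c).torus z'}).subgroupOf (chevE8.group L) := ⟨_, rfl⟩
  obtain ⟨T, hT⟩ : ∃ T : Subgroup ↥(chevE8.group L),
      T = (chevE8.diagonalSubgroup L).subgroupOf (chevE8.group L) := ⟨_, rfl⟩
  have hTH : T ≤ H := by
    intro a ha
    rw [hH, Subgroup.mem_subgroupOf, Subgroup.mem_centralizer_singleton_iff]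
    rw [hT, Subgroup.mem_subgroupOf] at ha
    exact (c).H_commutative ha ((c).torus_mem _)
  have himg : ∀ W : List ℕ, (∀ p ∈ W, p < 8) →
      simp8.map (wlF W) = (List.range 8).map fun q => (c).wl W ((c).T.simple q) := fun W hW => by
    have e : simp8 = (List.range 8).map fun q => simp8.getD q 0 := rfl
    rw [e, List.map_map]
    refine List.map_congr_left fun q hq => ?_
    rw [List.mem_range] at hq
    rw [Function.comp_apply, (simp8_spec q hq).1, (wlF_eq hW (hsl q hq)).1]
  have hex : ∀ W : List ℕ, (∀ p ∈ W, p < chevE8.rank) → (c).KeepsChar z' W →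
      ∃ V ∈ E, (c).Same W V := fun W hW hk => by
    have hm := images_mem (by norm_num) (by norm_num) htl ht (mult := 1) (W := W) hW fun j hj => by
      have e := hk _ (hsl j hj)
      rw [hfol _ ((c).wl_lt hW (hsl j hj)), hfol _ (hsl j hj)] at e
      have := zpow_inj hζ e
      rw [fval_simple _ hj] at this
      rwa [Nat.cast_one, one_mul]
    rw [← hE, List.mem_map] at hm
    obtain ⟨V, hV, hVi⟩ := hm
    refine ⟨V, hV, fun q hq' => ?_⟩
    have hq : q < 8 := hq'
    rw [himg V (hElt V hV)] at hVi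
    have := congrArg (fun l => l.getD q 0) hVi
    rw [List.getD_eq_getElem _ _ (by simpa using hq), List.getD_eq_getElem _ _ (by simpa using hq)] at this
    simp only [List.getElem_map, List.getElem_range] at this
    rw [(c).simple_eq hq']
    exact this.symm
  have hsep : E.Pairwise fun a b => ¬ (c).Same a b := by
    refine (List.pairwise_map.1 (incr_pairwise hincr)).imp_of_mem fun {a b} ha hb hlt hs => ?_
    rw [himg a (hElt a ha), himg b (hElt b hb), List.map_congr_left (g := fun q => (c).wl b ((c).T.simple q))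
      (fun q hq => by
        rw [List.mem_range] at hq
        rw [← (c).simple_eq hq]
        exact hs q hq)] at hlt
    exact lt_irrefl _ hlt
  have hkp : ∀ V ∈ E, (c).KeepsChar z' V := by
    intro V hV s hs
    have hVlt := hElt V hV
    have hm : simp8.map (wlF V) ∈ search 13 t 1 := hE ▸ List.mem_map.2 ⟨V, hV, rfl⟩
    obtain ⟨T', hT', -, hTc⟩ := srch_mem hm
    rw [List.nil_append, himg V hVlt] at hT'
    subst hT'
    have hj : ∀ j < 8, E8Spectrum.pull V (zI t) j ≡ zI t j [ZMOD (13 : ℕ)] := fun j hj => by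
      have h := hTc j (by simpa using hj)
      rw [List.getD_eq_getElem _ _ (by simpa using hj), List.getD_eq_getElem _ _ (by simpa using hj)] at h
      simp only [List.getElem_map, List.getElem_range, cands, List.mem_filter, List.mem_range,
        Nat.beq_eq] at h
      obtain ⟨hlt, hres⟩ := h
      rw [resZ_eq (by norm_num) (by norm_num) htl ht (v := zI t) (fun i _ => rfl) hlt] at hres
      have h1 := rz_cast (m := 13) (by norm_num) (zI t) ((c).wl V ((c).T.simple j))
      rw [hres, one_mul, Int.natCast_mod] at h1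
      exact (show _ ≡ _ [ZMOD (13 : ℕ)] from h1).symm
    rw [hfol _ ((c).wl_lt hVlt hs), hfol _ hs, zpow_eq_zpow_iff_modEq, hζ,
      ← fval_pull (zI t) hVlt hs]
    exact fval_congr hj s
  have hcardH : Nat.card ↥H = Fintype.card L ^
      Nat.card ({r | (c).Pos r} ∩ {r | (c).tchar z' r = 1} : Set ℕ) *
        Nat.card (chevE8.diagonalSubgroup L) *
        (E.map fun v => Fintype.card L ^
          Nat.card ((c).invSet v ∩ {r | (c).tchar z' r = 1} : Set ℕ)).sum := by
    rw [← (c).card_centralizer_torus z' (E := E) hElt hex hsep hkp]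
    refine Nat.card_congr (Equiv.subtypeEquivRight fun a => ?_)
    rw [hH, Subgroup.mem_subgroupOf, Subgroup.mem_centralizer_singleton_iff]
    exact eq_comm
  have h729 : ((729 : ℕ) : ZMod 7) = 1 := by rw [← ZMod.natCast_mod]; exact Nat.cast_one
  have hT7 : ¬ 7 ∣ (T.subgroupOf H).index := by
    intro hdvd
    have hmul := (T.subgroupOf H).card_mul_index
    rw [Nat.card_congr (Subgroup.subgroupOfEquivOfLe hTH).toEquiv, hT,
      Nat.card_congr (Subgroup.subgroupOfEquivOfLe (c).diagonal_le_group).toEquiv, hcardH] at hmul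
    obtain ⟨k, hk⟩ : ∃ k, k = Fintype.card L ^
        Nat.card ({r | (c).Pos r} ∩ {r | (c).tchar z' r = 1} : Set ℕ) *
        (E.map fun v => Fintype.card L ^
          Nat.card ((c).invSet v ∩ {r | (c).tchar z' r = 1} : Set ℕ)).sum := ⟨_, rfl⟩
    have e : (T.subgroupOf H).index = k := by
      rw [hT]
      haveI : Finite ↥(chevE8.diagonalSubgroup L) := Subtype.finite
      refine Nat.eq_of_mul_eq_mul_left (Nat.card_pos (α := chevE8.diagonalSubgroup L)) ?_
      rw [hmul, hk]; ring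
    rw [e, ← ZMod.natCast_eq_zero_iff, hk, Nat.cast_mul, Nat.cast_pow, Nat.cast_list_sum,
      List.map_map, hL, h729, one_pow, one_mul] at hdvd
    have hone : E.map ((Nat.cast : ℕ → ZMod 7) ∘ fun v => 729 ^
        Nat.card ((c).invSet v ∩ {r | (c).tchar z' r = 1} : Set ℕ)) =
        List.replicate E.length 1 := by
      rw [← List.map_const']
      exact List.map_congr_left fun v _ => by
        rw [Function.comp_apply, Nat.cast_pow, h729, one_pow]
    rw [hone, List.sum_replicate, nsmul_one, ZMod.natCast_eq_zero_iff] at hdvd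
    exact hlen hdvd
  have hyH : (⟨y, hy⟩ : ↥(chevE8.group L)) ∈ H := by
    rw [hH, Subgroup.mem_subgroupOf, Subgroup.mem_centralizer_singleton_iff]
    exact hcom.eq.symm
  obtain ⟨h, hh⟩ := Grp.SectionAut.exists_conj_le (T := T.subgroupOf H) hT7
    (R := Subgroup.zpowers (⟨_, hyH⟩ : ↥H))
    (IsPGroup.of_card (n := 1) (by
      rw [Nat.card_zpowers, Subgroup.orderOf_mk, Subgroup.orderOf_mk, hyo, pow_one]))
  have := hh _ (Subgroup.mem_zpowers _)
  rw [Subgroup.mem_subgroupOf, hT, Subgroup.mem_subgroupOf] at this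
  obtain ⟨zy, hzy⟩ := (c).diagonalSubgroup_eq.le this
  refine ⟨(h : ↥(chevE8.group L)).1, (h : ↥(chevE8.group L)).2, ?_, zy, ?_⟩
  · have : ∀ a : ↥(chevE8.group L), a ∈ H → Commute ((c).torus z') (a : GL chevE8.Idx L) := by
      intro a ha
      rw [hH, Subgroup.mem_subgroupOf, Subgroup.mem_centralizer_singleton_iff] at ha
      exact ha.symm
    exact this _ h.2
  · rw [hzy]; rfl

end Cfsg.Agent.Lie.Chev.E8Spectrum
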