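import Cfsg.Agent.Lib.Lie.Chev.E8Spectrum.Reps
import Cfsg.Agent.Lib.Lie.Chev.E8Spectrum.Torus
import Cfsg.Agent.Lib.Lie.Chev.E8Spectrum.Solve
import Cfsg.Agent.S4281

/-! Embeddings of PSL₂(3ᵏ) in the group of type E₈: the spectrum of toral elements and the number of
eigenvalues one of an involution. -/

set_option autoImplicit false
set_option maxRecDepth 8000
set_option maxHeartbeats 400000

namespace Cfsg.Agent.Lie.Chev.E8Spectrum

open Cfsg.Lie Module Classical.SLTwoThree
open scoped MatrixGroups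

local notation "c" => certFullE8

universe u

variable {F : Type u} [Field F] [Fintype F] [DecidableEq F] [CharP F 3]

/-- A homomorphism of SL₂ into the fixed points of the Frobenius map, faithful on the torus up to
signs. -/
structure Embedded (ψ : SL(2, F) →* GL chevE8.Idx F) : Prop where
  mem : ∀ g, ψ g ∈ chevE8.group F
  fixed : ∀ g, Matrix.GeneralLinearGroup.map (frobenius F 3) (ψ g) = ψ g
  neg : ψ (-1) = 1
  torus : ∀ a : Fˣ, ψ (Classical.SLTwoThree.dg a) = 1 → a ^ 2 = 1

variable {ψ : SL(2, F) →* GL chevE8.Idx F}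

/-- The image of the split torus. -/
def theta (ψ : SL(2, F) →* GL chevE8.Idx F) : Fˣ →* GL chevE8.Idx F := ψ.comp Classical.SLTwoThree.dgHom

theorem orderOf_theta (h : Embedded ψ) {a : Fˣ} {m : ℕ} (hm : Odd m) (ha : orderOf a = m) :
    orderOf (theta ψ a) = m := by
  refine Nat.dvd_antisymm (orderOf_dvd_of_pow_eq_one (by rw [← map_pow, ← ha, pow_orderOf_eq_one, map_one])) ?_
  have h1 : ψ (Classical.SLTwoThree.dg (a ^ orderOf (theta ψ a))) = 1 := by
    show theta ψ _ = 1
    rw [map_pow, pow_orderOf_eq_one]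
  have h2 := h.torus _ h1
  rw [← pow_mul] at h2
  exact (Nat.Coprime.dvd_of_dvd_mul_right (Nat.coprime_two_right.2 hm)
    (ha ▸ orderOf_dvd_of_pow_eq_one h2))

theorem theta_mem (h : Embedded ψ) (a : Fˣ) : theta ψ a ∈ chevE8.group F :=
  h.mem (Classical.SLTwoThree.dg a)

theorem theta_fixed (h : Embedded ψ) (a : Fˣ) :
    Matrix.GeneralLinearGroup.map (frobenius F 3) (theta ψ a) = theta ψ a :=
  h.fixed (Classical.SLTwoThree.dg a)

/-- The inclusion in an algebraic closure. -/
noncomputable abbrev incl (F : Type u) [Field F] : F →+* AlgebraicClosure F :=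
  algebraMap F (AlgebraicClosure F)

/-- The diagonal of a toral element in the closure. -/
noncomputable def diagVal (z : ℕ → Fˣ) : chevE8.Idx → AlgebraicClosure F :=
  Sum.elim (fun _ => 1) fun s => incl F ((c).tchar z s : F)

/-- The twisted tensor products of an embedding and their weights. -/
theorem exists_counts (h : Embedded ψ) {k : ℕ} (hF : Fintype.card F = 3 ^ k) (hk : 0 < k) :
    ∃ l : List (Fin k → Fin 3), (∀ d ∈ l, 2 ∣ num fun i => (d i : ℕ)) ∧
      ∀ (a : Fˣ) (g : GL chevE8.Idx F) (z : ℕ → Fˣ), g * theta ψ a * g⁻¹ = (c).torus z →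
        ∀ t : AlgebraicClosure F, t ≠ 0 → Nat.card {i // diagVal z i = t} =
          (l.map fun d => cnt d (incl F (a : F)) t).sum := by
  classical
  haveI : CharP (AlgebraicClosure F) 3 := charP_of_injective_ringHom (incl F).injective 3
  obtain ⟨ρ, hρ⟩ : ∃ ρ : SL(2, F) →* Module.End (AlgebraicClosure F) (chevE8.Idx → AlgebraicClosure F),
      ∀ g, ρ g = Matrix.toLinAlgEquiv' ((incl F).mapMatrix (ψ g : Matrix chevE8.Idx chevE8.Idx F)) :=
    ⟨{ toFun := fun g => Matrix.toLinAlgEquiv' ((incl F).mapMatrix (ψ g : Matrix chevE8.Idx chevE8.Idx F))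
       map_one' := by rw [map_one, Units.val_one, map_one, map_one]
       map_mul' := fun g g' => by rw [map_mul, Units.val_mul, map_mul, map_mul] }, fun _ => rfl⟩
  obtain ⟨l, hev, hl⟩ := exists_dims hF hk (incl F) (chevE8.Idx → AlgebraicClosure F) ρ
    (by rw [hρ, h.neg, Units.val_one, map_one, map_one])
  refine ⟨l, hev, fun a g z hz t ht => ?_⟩
  rw [← hl a t ht]
  refine (finrank_ker_conj (n := chevE8.Idx)
    (A := (incl F).mapMatrix (theta ψ a : Matrix chevE8.Idx chevE8.Idx F))
    (P := (incl F).mapMatrix ((g⁻¹ : GL chevE8.Idx F) : Matrix chevE8.Idx chevE8.Idx F))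
    (Q := (incl F).mapMatrix (g : Matrix chevE8.Idx chevE8.Idx F)) (diagVal z) ?_ ?_ t).symm.trans ?_
  · rw [← map_mul, ← Units.val_mul, inv_mul_cancel, Units.val_one, map_one]
  · have e : (incl F).mapMatrix (((c).torus z : GL chevE8.Idx F) : Matrix chevE8.Idx chevE8.Idx F) =
        Matrix.diagonal (diagVal z) := by
      rw [Cert.torus_apply, dg_val, ChevalleyDatum.charDiag, RingHom.mapMatrix_apply,
        Matrix.diagonal_map (map_zero _)]
      congr 1
      funext i
      rcases i with i | s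
      · exact map_one (incl F)
      · rfl
    rw [← e, ← map_mul, ← map_mul, ← Units.val_mul, ← Units.val_mul, ← hz]
    congr 2
    group
  · rw [hρ]
    rfl

/-- The spectrum of a toral element. -/
theorem fits_toral {k : ℕ} (hk : k ≤ 6) {l : List (Fin k → Fin 3)}
    (hev : ∀ d ∈ l, 2 ∣ num fun i => (d i : ℕ))
    (hl : ∀ (a : Fˣ) (g : GL chevE8.Idx F) (z : ℕ → Fˣ), g * theta ψ a * g⁻¹ = (c).torus z →
      ∀ t : AlgebraicClosure F, t ≠ 0 → Nat.card {i // diagVal z i = t} =
        (l.map fun d => cnt d (incl F (a : F)) t).sum)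
    {a b : Fˣ} (hab : a ^ 2 = b) {m : ℕ} (hm : 0 < m) (hb : orderOf b = m) {g : GL chevE8.Idx F}
    {z : ℕ → Fˣ} (hz : g * theta ψ a * g⁻¹ = (c).torus z) {v : ℕ → ℤ}
    (hv : ∀ s < 240, (c).tchar z s = b ^ fval v s) {nf : ℕ}
    (hnf : ((l.map toL).map fun d => evs (numL d / 2) (numsL d)).sum = nf) :
    Fits k m (l.map toL) v nf := by
  have hx : incl F (a : F) ^ 2 = incl F (b : F) := by
    rw [← map_pow, ← Units.val_pow_eq_pow_val, hab]
  have hβ : IsPrimitiveRoot (incl F (b : F)) m :=
    (IsPrimitiveRoot.coe_units_iff.2 (hb ▸ IsPrimitiveRoot.orderOf b)).map_of_injective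
      (incl F).injective
  refine fits_of_dims hx ((map_ne_zero _).2 a.ne_zero) hm hβ hk hev (dv := diagVal z)
    (fun _ => rfl) (fun s => ?_) (hl a g z hz) hnf
  show incl F ((c).tchar z s : F) = _
  rw [hv s s.2, zpow_rz hm hb, Units.val_pow_eq_pow_val, map_pow]

/-- The indicator of zero. -/
def isZero (t : ℕ) : ℕ := bif Nat.beq t 0 then 1 else 0

/-- The fixed space of a nontrivial sign vector has dimension 120 or 136. -/
noncomputable def fixOk (z : List ℕ) : Bool :=
  (z.all fun a => Nat.beq a 0) || [120, 136].any (Nat.beq (8 + 2 * posSum120 isZero 2 z))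

theorem fix_ok : ((assigns 2 8).all fixOk) = true := by decide +kernel

/-- An element of order four in the torus gives the number of even half weights. -/
theorem evs_value (h : Embedded ψ) {k : ℕ} (hk : k ≤ 6) {l : List (Fin k → Fin 3)}
    (hev : ∀ d ∈ l, 2 ∣ num fun i => (d i : ℕ))
    (hl : ∀ (a : Fˣ) (g : GL chevE8.Idx F) (z : ℕ → Fˣ), g * theta ψ a * g⁻¹ = (c).torus z →
      ∀ t : AlgebraicClosure F, t ≠ 0 → Nat.card {i // diagVal z i = t} =
        (l.map fun d => cnt d (incl F (a : F)) t).sum)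
    {a : Fˣ} (ha : orderOf a = 4) :
    ((l.map toL).map fun d => evs (numL d / 2) (numsL d)).sum ∈ [120, 136] := by
  classical
  haveI : Fact (Nat.Prime 3) := ⟨Nat.prime_three⟩
  have h2 : (2 : F) ≠ 0 := Ring.two_ne_zero (by rw [ringChar.eq F 3]; norm_num)
  have ha2 : orderOf (a ^ 2) = 2 := by rw [orderOf_pow' a two_ne_zero, ha]; rfl
  have hsq : a ^ 2 = -1 := by
    have h1 : ((a ^ 2 : Fˣ) : F) * ((a ^ 2 : Fˣ) : F) = 1 := by
      rw [← Units.val_mul, ← pow_two, show (a ^ 2) ^ 2 = 1 by
        have := pow_orderOf_eq_one (a ^ 2); rwa [ha2] at this, Units.val_one]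
    rcases mul_self_eq_one_iff.1 h1 with e | e
    · exfalso
      have : a ^ 2 = 1 := Units.ext e
      rw [this, orderOf_one] at ha2
      omega
    · exact Units.ext (by rw [e]; simp)
  have hT : theta ψ a * theta ψ a = 1 := by
    rw [← map_mul, ← pow_two, hsq]
    show ψ (Classical.SLTwoThree.dg (-1)) = 1
    rw [Classical.SLTwoThree.dg_neg_one, h.neg]
  have hT1 : theta ψ a ≠ 1 := fun e => by
    have := orderOf_dvd_of_pow_eq_one (h.torus a e)
    rw [ha] at this
    norm_num at this
  obtain ⟨g, hg, hgT⟩ := (c).exists_conj_mem_H (F := F) (p := 3) S4281.checkInv_ok h2 (h.mem _) hT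
  obtain ⟨z, hz⟩ := (c).diagonalSubgroup_eq.le hgT
  have hm1 : orderOf (-1 : Fˣ) = 2 := hsq ▸ ha2
  have hzg : g * theta ψ a * g⁻¹ = (c).torus z := hz.symm
  obtain ⟨v, hv⟩ := exists_exps (by norm_num) hm1 (z := z) fun s hs =>
    chars_pow hzg (by rw [pow_two, hT]) hs
  have hne := not_zero_of_ne hzg (q := 1) (r := 2) (by rw [one_mul, ← hm1, pow_orderOf_eq_one]) hv
    (by rwa [pow_one])
  obtain ⟨u, hu⟩ : ∃ u : List ℕ, u = (List.range 8).map fun j => (v j % 2).toNat := ⟨_, rfl⟩
  have hul : u.length = 8 := by rw [hu]; simp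
  have hu2 : ∀ w ∈ u, w < 2 := fun w hw => by
    rw [hu, List.mem_map] at hw
    obtain ⟨j, -, rfl⟩ := hw
    omega
  have huv : ∀ j < 8, v j ≡ (u.getD j 0 : ℤ) [ZMOD (2 : ℕ)] := fun j hj => by
    rw [hu, List.getD_eq_getElem _ _ (by simp [hj])]
    simp only [List.getElem_map, List.getElem_range]
    rw [Int.toNat_of_nonneg (Int.emod_nonneg _ (by norm_num))]
    exact (Int.mod_modEq _ _).symm
  have hok := List.all_eq_true.1 fix_ok u (hul ▸ mem_assigns hu2)
  simp only [fixOk, Bool.or_eq_true, List.all_eq_true, List.any_eq_true, Nat.beq_eq] at hok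
  rcases hok with hzero | ⟨n, hn, hP⟩
  · refine absurd (fun j hj => (huv j hj).trans ?_) hne
    rw [hzero (u.getD j 0) (by
      rw [List.getD_eq_getElem _ _ (by rw [hul]; exact hj)]; exact List.getElem_mem _), Nat.cast_zero]
  · suffices ((l.map toL).map fun d => evs (numL d / 2) (numsL d)).sum = n by rwa [this]
    have hx : incl F (a : F) ^ 2 = -1 := by
      rw [← map_pow, ← Units.val_pow_eq_pow_val, hsq, Units.val_neg, Units.val_one, map_neg, map_one]
    rw [evs_of_dims (Ring.two_ne_zero (by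
        haveI : CharP (AlgebraicClosure F) 3 := charP_of_injective_ringHom (incl F).injective 3
        rw [ringChar.eq (AlgebraicClosure F) 3]; norm_num)) hx hk hev,
      ← hl a g z hzg 1 one_ne_zero, ← hP,
      ← sum_eq (by norm_num) (by norm_num) isZero (fun t ht => by interval_cases t <;> rfl) hul hu2 huv,
      Nat.card_eq_fintype_card, Fintype.card_subtype, Finset.card_filter, Fintype.sum_sum_type,
      Finset.sum_range]
    refine congrArg₂ (· + ·) ?_ (Finset.sum_congr rfl fun s _ => ?_)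
    · simp [diagVal]
      rfl
    · have hne1 : (-1 : F) ≠ 1 := fun e => h2 (by linear_combination -e)
      show (if incl F ((c).tchar z s : F) = 1 then 1 else 0) = isZero (rz 2 v s)
      rw [hv s s.2, zpow_rz (by norm_num) hm1, Units.val_pow_eq_pow_val, Units.val_neg, Units.val_one]
      have := rz_lt (m := 2) (by norm_num) v s
      interval_cases hr : rz 2 v s
      · simp [isZero]
      · rw [pow_one, if_neg fun e => hne1 ((incl F).injective (e.trans (map_one _).symm))]
        rfl

end Cfsg.Agent.Lie.Chev.E8Spectrum
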