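import Cfsg.Agent.Lib.Lie.Chev.E8Spectrum.Main

/-! A copy of PSL₂(3ᵏ) in E₈(3) gives an embedding over the field with 3ᵏ elements. -/

set_option autoImplicit false
set_option maxRecDepth 8000
set_option maxHeartbeats 400000

namespace Cfsg.Agent.Lie.Chev.E8Spectrum

open Cfsg.Lie
open scoped MatrixGroups

local notation "c" => certFullE8

universe u

/-- A copy of PSL₂ over a field of characteristic three gives an embedding of SL₂. -/
theorem exists_embedded {F : Type u} [Field F] [Fintype F] [DecidableEq F] [CharP F 3]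
    {H : Subgroup ↥(chevE8.group (ZMod 3))}
    (e : ↥H ≃* Matrix.ProjectiveSpecialLinearGroup (Fin 2) F) :
    ∃ ψ : SL(2, F) →* GL chevE8.Idx F, Embedded ψ := by
  classical
  haveI : Fact (Nat.Prime 3) := ⟨Nat.prime_three⟩
  obtain ⟨ι, -⟩ : ∃ ι : ZMod 3 →+* F, ι = ZMod.castHom (dvd_refl 3) F := ⟨_, rfl⟩
  obtain ⟨mι, hmι⟩ : ∃ m : GL chevE8.Idx (ZMod 3) →* GL chevE8.Idx F,
      m = Matrix.GeneralLinearGroup.map (n := chevE8.Idx) ι := ⟨_, rfl⟩
  have hinj : Function.Injective mι := fun a b e => Units.ext (Matrix.ext fun i j =>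
    ι.injective (by
      rw [hmι] at e
      exact congrArg (fun h : GL chevE8.Idx F => (h : Matrix chevE8.Idx chevE8.Idx F) i j) e))
  obtain ⟨ψ, hψ⟩ : ∃ ψ : SL(2, F) →* GL chevE8.Idx F,
      ψ = mι.comp ((chevE8.group (ZMod 3)).subtype.comp
        (H.subtype.comp (e.symm.toMonoidHom.comp (QuotientGroup.mk' _)))) := ⟨_, rfl⟩
  have hker : ∀ g, ψ g = 1 ↔ g ∈ Subgroup.center SL(2, F) := fun g => by
    rw [hψ, ← QuotientGroup.eq_one_iff]
    simp only [MonoidHom.comp_apply, map_eq_one_iff _ hinj,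
      map_eq_one_iff _ (chevE8.group (ZMod 3)).subtype_injective,
      map_eq_one_iff _ H.subtype_injective]
    exact map_eq_one_iff e.symm e.symm.injective
  refine ⟨ψ, fun g => ?_, fun g => ?_, ?_, fun a ha => ?_⟩
  · have h : chevE8.group (ZMod 3) ≤ (chevE8.group F).comap mι := by
      conv_lhs => rw [(c).group_eq]
      refine (Subgroup.closure_le _).2 ?_
      rintro _ ⟨r, hr, t, rfl⟩
      rw [SetLike.mem_coe, Subgroup.mem_comap, hmι, (c).xg_mapHom]
      exact (c).xg_mem_group hr _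
    rw [hψ]
    exact h (SetLike.coe_mem _)
  · rw [hψ]
    simp only [MonoidHom.comp_apply, hmι]
    refine Units.ext (Matrix.ext fun i j => ?_)
    show frobenius F 3 (ι _) = ι _
    rw [frobenius_def, ← map_pow, ZMod.pow_card]
  · rw [hker, Subgroup.mem_center_iff]
    exact fun g => Subtype.ext (by simp)
  · rw [hker, Subgroup.mem_center_iff] at ha
    have h1 := ha (Classical.SLTwoThree.up (1 : F))
    rw [Classical.SLTwoThree.dg_up] at h1
    have h2 := congrArg (fun g : SL(2, F) => (g : Matrix (Fin 2) (Fin 2) F) 0 1) (mul_right_cancel h1)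
    refine Units.ext ?_
    simpa [Classical.SLTwoThree.up] using h2.symm

/-- There is no subgroup isomorphic to PSL₂ over a field of 243 or 729 elements. -/
theorem isEmpty_equiv {F : Type u} [Field F] [Fintype F] {k : ℕ} (hk : k = 5 ∨ k = 6)
    (hF : Fintype.card F = 3 ^ k) (H : Subgroup ↥(chevE8.group (ZMod 3))) :
    IsEmpty (↥H ≃* Matrix.ProjectiveSpecialLinearGroup (Fin 2) F) := by
  classical
  haveI : Fact (Nat.Prime 3) := ⟨Nat.prime_three⟩
  haveI : CharP F 3 := charP_of_card_eq_prime_pow hF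
  refine ⟨fun e => ?_⟩
  obtain ⟨ψ, hψ⟩ := exists_embedded e
  rcases hk with rfl | rfl
  · exact false_243 hψ (hF.trans (by norm_num))
  · exact false_729 hψ (hF.trans (by norm_num))

end Cfsg.Agent.Lie.Chev.E8Spectrum
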