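import Cfsg.Agent.Lib.Lie.Chev.E8Spectrum.Embed
import Cfsg.Agent.Lib.Lie.Chev.E8Spectrum.Data243
import Cfsg.Agent.Lib.Lie.Chev.E8Spectrum.Data729A
import Cfsg.Agent.Lib.Lie.Chev.E8Spectrum.Data729B
import Cfsg.Agent.Lib.Lie.Chev.E8Spectrum.Data729C

/-! No PSL₂(243) and no PSL₂(729) in the fixed points of the Frobenius map on the group of type E₈. -/

set_option autoImplicit false
set_option maxRecDepth 8000
set_option maxHeartbeats 400000

namespace Cfsg.Agent.Lie.Chev.E8Spectrum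

open Cfsg.Lie Classical.SLTwoThree
open scoped MatrixGroups

local notation "c" => certFullE8

universe u

variable {F : Type u} [Field F] [Fintype F] [DecidableEq F] [CharP F 3]
  {ψ : SL(2, F) →* GL chevE8.Idx F}

theorem exists_orderOf {m : ℕ} (h : m ∣ Fintype.card F - 1) : ∃ b : Fˣ, orderOf b = m := by
  classical
  obtain ⟨g, hg⟩ := IsCyclic.exists_ofOrder_eq_natCard (α := Fˣ)
  rw [Nat.card_units, Nat.card_eq_fintype_card] at hg
  have hpos : 0 < Fintype.card F - 1 := by have := Fintype.one_lt_card (α := F); omega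
  refine ⟨g ^ (orderOf g / m), orderOf_pow_orderOf_div (by omega) (hg ▸ h)⟩

/-- An element of odd order is the square of its `(m + 1) / 2`-th power. -/
theorem half_sq {b : Fˣ} {m j : ℕ} (hb : orderOf b = m) (hj : 2 * j = m + 1) :
    (b ^ j) ^ 2 = b ∧ orderOf (b ^ j) = m := by
  refine ⟨?_, ?_⟩
  · rw [← pow_mul, mul_comm, hj, pow_succ, ← hb, pow_orderOf_eq_one, one_mul]
  · rw [Nat.Coprime.orderOf_pow, hb]
    rw [hb]
    refine Nat.Coprime.symm (Nat.Coprime.coprime_dvd_left (Dvd.intro_left 2 hj) ?_)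
    rw [Nat.coprime_self_add_left]
    exact Nat.coprime_one_left m

/-- No embedding for 243. -/
theorem false_243 (h : Embedded ψ) (hF : Fintype.card F = 243) : False := by
  classical
  haveI : Fact (Nat.Prime 3) := ⟨Nat.prime_three⟩
  haveI : Fact (Nat.Prime 11) := ⟨by norm_num⟩
  have hφ : ∀ t : F, frobenius F 3 t = t ^ 3 := fun t => frobenius_def (R := F) (p := 3) t
  obtain ⟨b, hb⟩ := exists_orderOf (F := F) (m := 121) (by rw [hF]; norm_num)
  obtain ⟨hab, hao⟩ := half_sq hb (j := 61) (by norm_num)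
  obtain ⟨l, hev, hl⟩ := exists_counts h (k := 5) (by rw [hF]; norm_num) (by norm_num)
  have hxo : orderOf (theta ψ (b ^ 61)) = 121 := orderOf_theta h (by decide) hao
  obtain ⟨g, hg, z, hz⟩ := exists_toral (p := 11) (n := 2) (L := F) (by norm_num)
    (by rw [hF, ← ZMod.natCast_mod]; exact Nat.cast_one) (theta_mem h (b ^ 61)) (by rw [hxo]; norm_num)
  obtain ⟨v, hv⟩ := exists_exps (by norm_num) hb (z := z) fun s hs =>
    chars_pow hz (by rw [← hxo, pow_orderOf_eq_one]) hs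
  have htw : Twisted 121 v := twisted_of_fixed hφ hg (theta_fixed h _) hz hb hv
  have hfit := fits_toral (k := 5) (by norm_num) hev hl hab (by norm_num) hb hz hv rfl
  have hne : ¬ ∀ j < 8, v j ≡ 0 [ZMOD (11 : ℕ)] := not_zero_of_ne hz (q := 11) (r := 11)
    (by rw [show 11 * 11 = 121 by norm_num, ← hb, pow_orderOf_eq_one]) hv
    (fun e => by
      have := orderOf_dvd_of_pow_eq_one e
      rw [hxo] at this
      norm_num at this)
  obtain ⟨M, hM, t, ht, -, -, htv⟩ :=
    exists_normal (by norm_num) (by norm_num) kac11_ok (htw.of_dvd (by norm_num : (11 : ℕ) ∣ 121)) hne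
  rw [List.mem_singleton] at ht
  subst ht
  exact false_of_leaves (k := 5) (r := 11) (p := 11) (by norm_num) (by norm_num) (by norm_num)
    (by norm_num) (z := form11) (by rfl) (by decide) grps121_ok leaves121_search leaves121_ok htv
    (htw.pull hM) (n := 0) (nfs := [0]) (by simp) (Or.inr grps121_zero) (hfit.pull hM)
    fun h0 => absurd ((htv 0 (by norm_num)).symm.trans (h0 0 (by norm_num))) (by decide)

/-- A normal form with a joint toral element is excluded. -/
theorem false_form (h : Embedded ψ) (hF : Fintype.card F = 729) {b : Fˣ} (hb : orderOf b = 91)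
    {l : List (Fin 6 → Fin 3)} (hev : ∀ d ∈ l, 2 ∣ num fun i => (d i : ℕ))
    (hl : ∀ (a : Fˣ) (g : GL chevE8.Idx F) (z : ℕ → Fˣ), g * theta ψ a * g⁻¹ = (c).torus z →
      ∀ t : AlgebraicClosure F, t ≠ 0 → Nat.card {i // diagVal z i = t} =
        (l.map fun d => cnt d (incl F (a : F)) t).sum)
    {nf : ℕ} (hnf : ((l.map toL).map fun d => evs (numL d / 2) (numsL d)).sum = nf)
    (hnf2 : nf ∈ [120, 136]) {t : List ℕ} (htl : t.length = 8) (ht : ∀ a ∈ t, a < 13)
    {E : List (List ℕ)} (hElt : (E.all fun W => W.all fun p => Nat.blt p 8) = true)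
    (hE : (E.map fun W => simp8.map (wlF W)) = search 13 t 1)
    (hincr : incr (E.map fun W => imgKey (simp8.map (wlF W))) = true) (hlen : ¬ 7 ∣ E.length)
    {leaves : List Leaf} (hse : search 13 t 3 = leaves.map Leaf.imgs)
    (hok : ∀ L ∈ leaves, leafOk 13 7 t grps91 L = true) {g₂ : GL chevE8.Idx F}
    (hg₂ : g₂ ∈ chevE8.group F) {z' : ℕ → Fˣ}
    (hz' : g₂ * theta ψ (b ^ 46) ^ 7 * g₂⁻¹ = (c).torus z')
    (hfol : ∀ s < 240, (c).tchar z' s = (b ^ 7) ^ fval (zI t) s) : False := by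
  classical
  haveI : Fact (Nat.Prime 3) := ⟨Nat.prime_three⟩
  haveI : Fact (Nat.Prime 7) := ⟨by norm_num⟩
  have hφ : ∀ t : F, frobenius F 3 t = t ^ 3 := fun t => frobenius_def (R := F) (p := 3) t
  obtain ⟨hab, hao⟩ := half_sq hb (j := 46) (by norm_num)
  obtain ⟨x, hx⟩ : ∃ x, x = theta ψ (b ^ 46) := ⟨_, rfl⟩
  have hxo : orderOf x = 91 := hx ▸ orderOf_theta h (by decide) hao
  rw [← hx] at hz'
  have hxmem : x ∈ chevE8.group F := hx ▸ theta_mem h _
  have hb7 : orderOf (b ^ 7) = 13 := by rw [orderOf_pow' b (by norm_num : 7 ≠ 0), hb]; norm_num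
  have hy : g₂ * x ^ 13 * g₂⁻¹ ∈ chevE8.group F :=
    mul_mem (mul_mem hg₂ (pow_mem hxmem 13)) (inv_mem hg₂)
  obtain ⟨k, hk, hkc, zy, hzy⟩ := exists_joint hF hb7 htl ht
    (fun W hW p hp => by
      have := List.all_eq_true.1 (List.all_eq_true.1 hElt W hW) p hp
      rw [Nat.blt, Nat.ble_eq] at this
      exact this)
    hE hincr hlen hfol (y := g₂ * x ^ 13 * g₂⁻¹) hy (by
      have e : SemiconjBy g₂ (x ^ 13) (g₂ * x ^ 13 * g₂⁻¹) :=
        (inv_mul_cancel_right (g₂ * x ^ 13) g₂).symm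
      rw [← e.orderOf_eq, orderOf_pow' x (by norm_num : 13 ≠ 0), hxo]
      norm_num)
    (by
      rw [← hz']
      exact (Commute.pow_pow_self x 7 13).map (MulAut.conj g₂).toMonoidHom)
  obtain ⟨g₃, hg₃⟩ : ∃ g₃, g₃ = k * g₂ := ⟨_, rfl⟩
  have h7 : g₃ * x ^ 7 * g₃⁻¹ = (c).torus z' := by
    rw [hg₃]
    calc k * g₂ * x ^ 7 * (k * g₂)⁻¹ = k * (g₂ * x ^ 7 * g₂⁻¹) * k⁻¹ := by group
      _ = (c).torus z' := by rw [hz', ← hkc.eq, mul_inv_cancel_right]
  have h13 : g₃ * x ^ 13 * g₃⁻¹ = (c).torus zy := by rw [← hzy, hg₃]; group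
  have hxz : g₃ * x * g₃⁻¹ = (c).torus (z' ^ 2 * zy⁻¹) := by
    rw [map_mul, map_inv, map_pow, ← h7, ← h13, conj_pow, ← pow_mul]
    group
  have hg₃m : g₃ ∈ chevE8.group F := hg₃ ▸ mul_mem hk hg₂
  obtain ⟨v, hv⟩ := exists_exps (by norm_num) hb fun s hs =>
    chars_pow hxz (by rw [← hxo, pow_orderOf_eq_one]) hs
  have htw : Twisted 91 v := twisted_of_fixed hφ hg₃m (hx ▸ theta_fixed h _) hxz hb hv
  have hfit := fits_toral (k := 6) (by norm_num) hev hl hab (by norm_num) hb (hx ▸ hxz) hv hnf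
  have hvt : ∀ j < 8, v j ≡ zI t j [ZMOD (13 : ℕ)] := fun j hj => by
    have hs : (c).T.simple j < 240 := (c).simple_eq hj ▸ (c).simple_lt hj
    have e : (c).tchar ((z' ^ 2 * zy⁻¹) ^ 7) ((c).T.simple j) = (c).tchar z' ((c).T.simple j) := by
      refine chars_of_torus ?_ hs
      rw [map_pow, ← hxz, conj_pow, h7]
    rw [(c).tchar_pow, hv _ hs, hfol _ hs, fval_simple v hj, fval_simple (zI t) hj, ← zpow_natCast,
      ← zpow_natCast b 7, ← zpow_mul, ← zpow_mul] at e
    obtain ⟨w, hw⟩ := Int.modEq_iff_dvd.1 (zpow_inj hb e)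
    refine Int.modEq_iff_dvd.2 ⟨w, ?_⟩
    push_cast at hw ⊢
    linarith
  have hne : ¬ ∀ j < 8, v j ≡ 0 [ZMOD (7 : ℕ)] := not_zero_of_ne hxz (q := 13) (r := 7)
    (by rw [show 13 * 7 = 91 by norm_num, ← hb, pow_orderOf_eq_one]) hv
    (fun e => by
      have := orderOf_dvd_of_pow_eq_one e
      rw [hxo] at this
      norm_num at this)
  exact false_of_leaves (k := 6) (r := 13) (p := 7) (by norm_num) (by norm_num) (by norm_num)
    (by norm_num) htl ht grps91_ok hse hok hvt htw hnf2 (Or.inl rfl) hfit hne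

/-- No embedding for 729. -/
theorem false_729 (h : Embedded ψ) (hF : Fintype.card F = 729) : False := by
  classical
  haveI : Fact (Nat.Prime 3) := ⟨Nat.prime_three⟩
  haveI : Fact (Nat.Prime 13) := ⟨by norm_num⟩
  have hφ : ∀ t : F, frobenius F 3 t = t ^ 3 := fun t => frobenius_def (R := F) (p := 3) t
  obtain ⟨b, hb⟩ := exists_orderOf (F := F) (m := 91) (by rw [hF]; norm_num)
  obtain ⟨i, hi⟩ := exists_orderOf (F := F) (m := 4) (by rw [hF]; norm_num)
  obtain ⟨hab, hao⟩ := half_sq hb (j := 46) (by norm_num)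
  obtain ⟨l, hev, hl⟩ := exists_counts h (k := 6) (by rw [hF]; norm_num) (by norm_num)
  obtain ⟨nf, hnf⟩ : ∃ nf, ((l.map toL).map fun d => evs (numL d / 2) (numsL d)).sum = nf := ⟨_, rfl⟩
  have hnf2 : nf ∈ [120, 136] := hnf ▸ evs_value h (by norm_num) hev hl hi
  obtain ⟨x, hx⟩ : ∃ x, x = theta ψ (b ^ 46) := ⟨_, rfl⟩
  have hxo : orderOf x = 91 := hx ▸ orderOf_theta h (by decide) hao
  have hxmem : x ∈ chevE8.group F := hx ▸ theta_mem h _
  have hb7 : orderOf (b ^ 7) = 13 := by rw [orderOf_pow' b (by norm_num : 7 ≠ 0), hb]; norm_num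
  have hx7 : orderOf (x ^ 7) = 13 := by rw [orderOf_pow' x (by norm_num : 7 ≠ 0), hxo]; norm_num
  obtain ⟨g₁, hg₁, z₁, hz₁⟩ := exists_toral (p := 13) (n := 1) (L := F) (by norm_num)
    (by rw [hF, ← ZMod.natCast_mod]; exact Nat.cast_one) (pow_mem hxmem 7) (by rw [hx7, pow_one])
  obtain ⟨v₁, hv₁⟩ := exists_exps (by norm_num) hb7 (z := z₁) fun s hs =>
    chars_pow hz₁ (by rw [← hx7, pow_orderOf_eq_one]) hs
  have htw₁ : Twisted 13 v₁ := twisted_of_fixed hφ hg₁
    (by rw [hx, ← map_pow]; exact theta_fixed h _) hz₁ hb7 hv₁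
  have hne₁ : ¬ ∀ j < 8, v₁ j ≡ 0 [ZMOD (13 : ℕ)] := not_zero_of_ne hz₁ (q := 1) (r := 13)
    (by rw [one_mul, ← hb7, pow_orderOf_eq_one]) hv₁
    (fun e => by rw [pow_one] at e; rw [e, orderOf_one] at hx7; norm_num at hx7)
  obtain ⟨M, hM, t, ht, htl, htlt, htv⟩ :=
    exists_normal (by norm_num) (by norm_num) kac13_ok htw₁ hne₁
  obtain ⟨g₂, hg₂, z', hz', hv'⟩ := exists_move hg₁ hz₁ hv₁ hM
  have hfol : ∀ s < 240, (c).tchar z' s = (b ^ 7) ^ fval (zI t) s := fun s hs => by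
    rw [hv' s hs, zpow_eq_zpow_iff_modEq, hb7]
    exact fval_congr htv s
  rcases List.mem_append.1 ht with ht | ht
  · simp only [forms13, List.mem_cons, List.not_mem_nil, or_false] at ht
    rcases ht with rfl | rfl | rfl
    · exact false_form h hF hb hev hl hnf hnf2 (t := form13A) htl htlt stab13A_lt stab13A_ok
        stab13A_incr (by decide) leaves91A_search leaves91A_ok hg₂ (hx ▸ hz') hfol
    · exact false_form h hF hb hev hl hnf hnf2 (t := form13B) htl htlt stab13B_lt stab13B_ok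
        stab13B_incr (by decide) leaves91B_search leaves91B_ok hg₂ (hx ▸ hz') hfol
    · exact false_form h hF hb hev hl hnf hnf2 (t := form13C) htl htlt stab13C_lt stab13C_ok
        stab13C_incr (by decide) leaves91C_search leaves91C_ok hg₂ (hx ▸ hz') hfol
  · obtain ⟨q, hq, rfl⟩ := List.mem_map.1 ht
    have hq' := List.all_eq_true.1 others13_ok q hq
    simp only [Bool.and_eq_true] at hq'
    have ha7 : ((b ^ 46) ^ 7) ^ 2 = b ^ 7 := by rw [← pow_mul, mul_comm, pow_mul, hab]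
    have hfit := fits_toral (k := 6) (by norm_num) hev hl ha7 (by norm_num) hb7
      (g := g₂) (z := z') (by rw [map_pow, ← hx]; exact hz') hv' hnf
    exact false_of_weight (by norm_num) (by norm_num) (by norm_num) dvd_rfl hq'.1.1 hq'.1.2 hq'.2
      hnf2 (Or.inl rfl) htl htlt hfit htv

end Cfsg.Agent.Lie.Chev.E8Spectrum
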