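import Cfsg.Agent.Lib.Lie.Chev.E8Spectrum.Tables

/-! The packed pairing masks of the roots of type E₈ agree with the pairings. -/

set_option autoImplicit false
set_option maxRecDepth 100000

namespace Cfsg.Agent.Lie.Chev.E8Spectrum

/-- The roots whose pairing with a root, raised by one, is `t`. -/
def maskAt (t x : ℕ) : ℕ :=
  Nat.mod (Nat.shiftRight (bif Nat.beq t 0 then maskMinus else maskZero) (Nat.mul 256 x)) (2 ^ 256)

/-- A bit. -/
def bitAt (A x : ℕ) : Bool := Nat.beq (Nat.mod (Nat.shiftRight A x) 2) 1

theorem bitAt_iff (A x : ℕ) : bitAt A x = true ↔ A.testBit x = true := by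
  rw [bitAt, Nat.beq_eq, Nat.testBit_eq_decide_div_mod_eq, decide_eq_true_eq,
    ← Nat.shiftRight_eq_div_pow]
  rfl

/-- A mask covers the pairings with a run of roots. -/
def maskOk (t : ℕ) (a : ℕ) : Bool :=
  (List.range' a 60).all fun x => (List.range 240).all fun y =>
    !(pairOk x y t) || bitAt (maskAt t x) y

theorem maskMinus_ok0 : maskOk 0 0 = true := by decide +kernel

theorem maskMinus_ok1 : maskOk 0 60 = true := by decide +kernel

theorem maskMinus_ok2 : maskOk 0 120 = true := by decide +kernel

theorem maskMinus_ok3 : maskOk 0 180 = true := by decide +kernel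

theorem maskZero_ok0 : maskOk 1 0 = true := by decide +kernel

theorem maskZero_ok1 : maskOk 1 60 = true := by decide +kernel

theorem maskZero_ok2 : maskOk 1 120 = true := by decide +kernel

theorem maskZero_ok3 : maskOk 1 180 = true := by decide +kernel

theorem testBit_maskAt {x y t : ℕ} (hx : x < 240) (hy : y < 240) (ht : t < 2)
    (h : pairOk x y t = true) : (maskAt t x).testBit y = true := by
  have key : ∀ a, maskOk t a = true → a ≤ x → x < a + 60 → (maskAt t x).testBit y = true := by
    intro a ha h1 h2
    simp only [maskOk, List.all_eq_true, List.mem_range'_1, List.mem_range] at ha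
    have := ha x ⟨h1, h2⟩ y hy
    rw [h, Bool.not_true, Bool.false_or] at this
    exact (bitAt_iff _ _).1 this
  interval_cases t
  · rcases (show x < 60 ∨ (60 ≤ x ∧ x < 120) ∨ (120 ≤ x ∧ x < 180) ∨ 180 ≤ x by omega) with
      h1 | h1 | h1 | h1
    exacts [key 0 maskMinus_ok0 (by omega) (by omega), key 60 maskMinus_ok1 (by omega) (by omega),
      key 120 maskMinus_ok2 (by omega) (by omega), key 180 maskMinus_ok3 (by omega) (by omega)]
  · rcases (show x < 60 ∨ (60 ≤ x ∧ x < 120) ∨ (120 ≤ x ∧ x < 180) ∨ 180 ≤ x by omega) with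
      h1 | h1 | h1 | h1
    exacts [key 0 maskZero_ok0 (by omega) (by omega), key 60 maskZero_ok1 (by omega) (by omega),
      key 120 maskZero_ok2 (by omega) (by omega), key 180 maskZero_ok3 (by omega) (by omega)]

end Cfsg.Agent.Lie.Chev.E8Spectrum
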