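import Cfsg.Agent.Lib.Lie.Chev.E8Spectrum.Sums
import Cfsg.Agent.Lib.Classical.SLTwoThree.Weights

/-! The eigenvalue counts of a representation of SL₂(3ᵏ) by matrices conjugate to diagonal ones give
a list of twisted tensor products with the spectrum of an integer vector. -/

set_option autoImplicit false
set_option maxHeartbeats 400000

namespace Cfsg.Agent.Lie.Chev.E8Spectrum

open Module Classical.SLTwoThree
open scoped MatrixGroups

universe u w

variable {K : Type w} [Field K]

/-- An eigenspace of a conjugate of a diagonal matrix. -/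
theorem finrank_ker_conj {n : Type*} [Fintype n] [DecidableEq n] {A P Q : Matrix n n K} (d : n → K)
    (hPQ : P * Q = 1) (hA : A = P * Matrix.diagonal d * Q) (x : K) :
    finrank K (LinearMap.ker (Matrix.toLinAlgEquiv' A - x • (1 : Module.End K (n → K)))) =
      Nat.card {i // d i = x} := by
  classical
  have hQP : Q * P = 1 := mul_eq_one_comm.1 hPQ
  have hB : A - x • 1 = P * Matrix.diagonal (fun i => d i - x) * Q := by
    rw [hA, ← Matrix.diagonal_sub, Matrix.mul_sub, Matrix.sub_mul,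
      ← Matrix.smul_one_eq_diagonal, Matrix.mul_smul, Matrix.smul_mul, mul_one, hPQ]
  have hrank : (A - x • 1).rank = Fintype.card {i // d i - x ≠ 0} := by
    rw [hB, Matrix.rank_mul_eq_left_of_isUnit_det Q _
        (Matrix.isUnit_det_of_left_inverse hPQ),
      Matrix.rank_mul_eq_right_of_isUnit_det P _
        (Matrix.isUnit_det_of_left_inverse hQP), Matrix.rank_diagonal]
  have e : Matrix.toLinAlgEquiv' A - x • (1 : Module.End K (n → K)) = (A - x • 1).mulVecLin := by
    ext v i
    simp [Matrix.sub_mulVec, Matrix.smul_mulVec]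
  have h := LinearMap.finrank_range_add_finrank_ker (A - x • 1).mulVecLin
  rw [Module.finrank_pi, ← Matrix.rank] at h
  rw [e, Nat.card_eq_fintype_card]
  have hc := Fintype.card_subtype_compl fun i => d i = x
  have hle := Fintype.card_subtype_le fun i => d i = x
  rw [hrank] at h
  simp only [sub_ne_zero] at h
  simp only [ne_eq] at h
  omega

/-- A weighted sum split by values. -/
theorem sum_fiber {α : Type*} [Fintype α] {m : ℕ} (f : α → ℕ) (hf : ∀ a, f a < m) (g : ℕ → ℕ) :
    ∑ a, g (f a) = ∑ t ∈ Finset.range m, g t * Nat.card {a // f a = t} := by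
  classical
  rw [← Finset.sum_fiberwise_of_maps_to (g := f) (t := Finset.range m)
    fun a _ => Finset.mem_range.2 (hf a)]
  refine Finset.sum_congr rfl fun t _ => ?_
  rw [Finset.sum_congr rfl (g := fun _ => g t) fun a ha => by rw [(Finset.mem_filter.1 ha).2],
    Finset.sum_const, smul_eq_mul, mul_comm, Nat.card_eq_fintype_card, Fintype.card_subtype]

variable {k : ℕ}

/-- The digit list of a degree vector. -/
def toL (d : Fin k → Fin 3) : List ℕ := List.ofFn fun i => (d i : ℕ)

theorem toL_mem : ∀ {k : ℕ} (d : Fin k → Fin 3), toL d ∈ allD k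
  | 0, d => by simp [toL, allD]
  | k + 1, d => by
    rw [toL, List.ofFn_succ, allD, List.mem_flatMap]
    exact ⟨d 0, List.mem_range.2 (d 0).2, List.mem_map.2 ⟨_, toL_mem fun i => d i.succ, rfl⟩⟩

theorem numL_toL : ∀ {k : ℕ} (d : Fin k → Fin 3), numL (toL d) = num fun i => (d i : ℕ)
  | 0, d => by simp [toL, numL, num]
  | k + 1, d => by
    rw [toL, List.ofFn_succ, numL, ← toL, numL_toL, num, num, Fin.sum_univ_succ, Finset.mul_sum]
    congr 1
    · simp
    · exact Finset.sum_congr rfl fun i _ => by rw [Fin.val_succ, pow_succ]; ring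

theorem sum_idx : ∀ {k : ℕ} (d : Fin k → Fin 3) (f : ℕ → ℕ),
    ∑ e : Idx d, f (num fun i => ((e i : Fin _) : ℕ)) = ((numsL (toL d)).map f).sum
  | 0, d, f => by simp [toL, numsL, num]
  | k + 1, d, f => by
    rw [toL, List.ofFn_succ, numsL, ← toL, List.map_flatMap, List.flatMap, List.sum_flatten, List.map_map,
      ← (Fin.consEquiv fun i : Fin (k + 1) => Fin ((d i : ℕ) + 1)).sum_comp, Fintype.sum_prod_type,
      ← List.sum_toFinset _ List.nodup_range, List.toFinset_range, Finset.sum_range]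
    refine Finset.sum_congr rfl fun a _ => ?_
    rw [Function.comp_apply, List.map_map, ← sum_idx (fun i => d i.succ) (f ∘ fun n => (a : ℕ) + 3 * n)]
    refine Finset.sum_congr rfl fun e _ => congrArg f ?_
    simp only [Fin.consEquiv_apply, num]
    rw [Fin.sum_univ_succ, Finset.mul_sum]
    simp only [Fin.cons_zero, Fin.cons_succ, Fin.val_zero, pow_zero, mul_one, Fin.val_succ, pow_succ]
    exact congrArg _ (Finset.sum_congr rfl fun i _ => by ring)

theorem resSum_eq (g : ℕ → ℕ) (m h : ℕ) :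
    ∀ L : List ℕ, resSum g m h L = (L.map fun n => g (rs m h n)).sum
  | [] => rfl
  | n :: L => by rw [List.map_cons, List.sum_cons, ← resSum_eq g m h L]; rfl

theorem evs_eq (h : ℕ) : ∀ L : List ℕ, evs h L = (L.map fun n => 1 - (h + n) % 2).sum
  | [] => rfl
  | n :: L => by rw [List.map_cons, List.sum_cons, ← evs_eq h L]; rfl

theorem wt_eq (d : Fin k → Fin 3) (e : Idx d) :
    wt d e = ((num fun i => (d i : ℕ) : ℕ) : ℤ) - 2 * ((num fun i => ((e i : Fin _) : ℕ) : ℕ) : ℤ) := by
  simp only [wt, num, Nat.cast_sum, Finset.mul_sum, ← Finset.sum_sub_distrib]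
  exact Finset.sum_congr rfl fun i _ => by push_cast; ring

theorem num_idx_le (d : Fin k → Fin 3) (e : Idx d) :
    num (fun i => ((e i : Fin _) : ℕ)) ≤ num fun i => (d i : ℕ) :=
  Finset.sum_le_sum fun i _ => Nat.mul_le_mul_right _ (Nat.le_of_lt_succ (e i).2)

/-- A power at a weight is a power of the square at a residue. -/
theorem zpow_wt {x β : K} (hx : x ^ 2 = β) (hx0 : x ≠ 0) {m : ℕ} (hm : 0 < m) (hβ : β ^ m = 1)
    (hk : k ≤ 6) (d : Fin k → Fin 3) (hev : 2 ∣ num fun i => (d i : ℕ)) (e : Idx d) :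
    x ^ wt d e = β ^ rs m ((num fun i => (d i : ℕ)) / 2) (num fun i => ((e i : Fin _) : ℕ)) := by
  have hlt : (num fun i => (d i : ℕ)) < 729 :=
    lt_of_lt_of_le (num_lt fun i => (d i).2)
      (le_trans (Nat.pow_le_pow_right (by norm_num) hk) (by norm_num))
  have hle := num_idx_le d e
  obtain ⟨h, hh⟩ := hev
  obtain ⟨n, hn⟩ : ∃ n, n = num fun i => ((e i : Fin _) : ℕ) := ⟨_, rfl⟩
  have hb : n ≤ h + 729 * m := by nlinarith
  rw [wt_eq, ← hn, hh, Nat.mul_div_cancel_left h (by norm_num),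
    show ((2 * h : ℕ) : ℤ) - 2 * (n : ℤ) = ((2 : ℕ) : ℤ) * ((h : ℤ) - n) by push_cast; ring,
    zpow_mul, zpow_natCast, hx, show rs m h n = (h + 729 * m - n) % m from rfl]
  rw [← pow_eq_pow_mod (h + 729 * m - n) hβ, ← zpow_natCast, Nat.cast_sub hb]
  have hβ0 : β ≠ 0 := hx ▸ pow_ne_zero 2 hx0
  push_cast
  rw [show (h : ℤ) + 729 * (m : ℤ) - n = ((h : ℤ) - n) + (m : ℤ) * 729 by ring, zpow_add₀ hβ0,
    zpow_mul, zpow_natCast, hβ, one_zpow, mul_one]

/-- Counts of eigenvalues become counts of residues. -/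
theorem count_residue {x β : K} (hx : x ^ 2 = β) (hx0 : x ≠ 0) {m : ℕ} (hm : 0 < m)
    (hβ : IsPrimitiveRoot β m) (hk : k ≤ 6) (l : List (Fin k → Fin 3))
    (hev : ∀ d ∈ l, 2 ∣ num fun i => (d i : ℕ)) {α : Type*} [Fintype α] (dv : α → K) (r : α → ℕ)
    (hr : ∀ a, r a < m ∧ dv a = β ^ r a)
    (hdim : ∀ t : K, t ≠ 0 → Nat.card {a // dv a = t} = (l.map fun d => cnt d x t).sum) (g : ℕ → ℕ) :
    ((l.map toL).map fun d => resSum g m (numL d / 2) (numsL d)).sum = ∑ a, g (r a) := by
  have hinj : ∀ s t, s < m → t < m → β ^ s = β ^ t → s = t := fun s t hs ht h => hβ.pow_inj hs ht h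
  rw [sum_fiber r (fun a => (hr a).1) g, List.map_map]
  have hd : ∀ t < m, Nat.card {a // r a = t} = (l.map fun d => cnt d x (β ^ t)).sum := fun t ht => by
    rw [← hdim _ (pow_ne_zero _ (hβ.ne_zero hm.ne'))]
    refine Nat.card_congr (Equiv.subtypeEquivRight fun a => ?_)
    rw [(hr a).2]
    exact ⟨fun e => e ▸ rfl, hinj _ _ (hr a).1 ht⟩
  rw [Finset.sum_congr rfl fun t ht => by rw [hd t (Finset.mem_range.1 ht)]]
  clear hd hdim hr
  induction l with
  | nil => simp
  | cons d l ih =>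
    simp only [List.map_cons, List.sum_cons, mul_add, Finset.sum_add_distrib]
    rw [ih fun e he => hev e (List.mem_cons_of_mem _ he)]
    refine congrArg₂ (· + ·) ?_ rfl
    rw [Function.comp_apply, numL_toL, resSum_eq, ← sum_idx d,
      sum_fiber (fun e : Idx d => rs m ((num fun i => (d i : ℕ)) / 2) (num fun i => ((e i : Fin _) : ℕ)))
        (fun e => Nat.mod_lt _ hm) g]
    refine Finset.sum_congr rfl fun t ht => congrArg _ (Nat.card_congr (Equiv.subtypeEquivRight fun e => ?_))
    rw [zpow_wt hx hx0 hm hβ.pow_eq_one hk d (hev d (by simp)) e]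
    exact ⟨fun he => he ▸ rfl, hinj _ _ (Nat.mod_lt _ hm) (Finset.mem_range.1 ht)⟩

/-- A representation's counts give the spectrum of a vector. -/
theorem fits_of_dims {x β : K} (hx : x ^ 2 = β) (hx0 : x ≠ 0) {m : ℕ} (hm : 0 < m)
    (hβ : IsPrimitiveRoot β m) (hk : k ≤ 6) {l : List (Fin k → Fin 3)}
    (hev : ∀ d ∈ l, 2 ∣ num fun i => (d i : ℕ)) {v : ℕ → ℤ} {dv : Fin 8 ⊕ Fin 240 → K}
    (h1 : ∀ i, dv (Sum.inl i) = 1) (h2 : ∀ s, dv (Sum.inr s) = β ^ rz m v s)
    (hdim : ∀ t : K, t ≠ 0 → Nat.card {a // dv a = t} = (l.map fun d => cnt d x t).sum) {nf : ℕ}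
    (hnf : ((l.map toL).map fun d => evs (numL d / 2) (numsL d)).sum = nf) :
    Fits k m (l.map toL) v nf := by
  refine ⟨fun d hd => ?_, fun g => ?_, hnf⟩
  · obtain ⟨d, hd', rfl⟩ := List.mem_map.1 hd
    exact ⟨toL_mem d, by rw [numL_toL]; exact Nat.dvd_iff_mod_eq_zero.1 (hev d hd')⟩
  · rw [count_residue hx hx0 hm hβ hk l hev dv (Sum.elim (fun _ => 0) fun s => rz m v s)
      (fun a => by
        rcases a with i | s
        · exact ⟨hm, by simp [h1]⟩
        · exact ⟨rz_lt hm v s, by simp [h2]⟩) hdim g, Fintype.sum_sum_type, Finset.sum_range]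
    simp

/-- The number of even half weights from an element of order four. -/
theorem evs_of_dims (h2 : (2 : K) ≠ 0) {x : K} (hx : x ^ 2 = -1) (hk : k ≤ 6)
    {l : List (Fin k → Fin 3)} (hev : ∀ d ∈ l, 2 ∣ num fun i => (d i : ℕ)) :
    ((l.map toL).map fun d => evs (numL d / 2) (numsL d)).sum = (l.map fun d => cnt d x 1).sum := by
  have hx0 : x ≠ 0 := fun e => by simp [e] at hx
  have hne : (-1 : K) ≠ 1 := fun e => h2 (by linear_combination -e)
  classical
  rw [List.map_map]
  refine congrArg List.sum (List.map_congr_left fun d hd => ?_)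
  rw [Function.comp_apply, numL_toL, evs_eq, ← sum_idx d, cnt, Nat.card_eq_fintype_card,
    Fintype.card_subtype, Finset.card_filter]
  refine Finset.sum_congr rfl fun e _ => ?_
  rw [zpow_wt hx hx0 (m := 2) (by norm_num) (by norm_num) hk d (hev d hd) e, rs]
  have hle := num_idx_le d e
  have hlt : (num fun i => (d i : ℕ)) < 729 :=
    lt_of_lt_of_le (num_lt fun i => (d i).2)
      (le_trans (Nat.pow_le_pow_right (by norm_num) hk) (by norm_num))
  generalize (num fun i => (d i : ℕ)) = N at hle hlt ⊢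
  generalize (num fun i => ((e i : Fin _) : ℕ)) = n at hle ⊢
  show _ = if (-1 : K) ^ ((N / 2 + 729 * 2 - n) % 2) = 1 then 1 else 0
  rcases Nat.mod_two_eq_zero_or_one (N / 2 + 729 * 2 - n) with h | h
  · rw [h, pow_zero, if_pos rfl]; omega
  · rw [h, pow_one, if_neg hne]; omega

end Cfsg.Agent.Lie.Chev.E8Spectrum
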