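import Cfsg.Agent.Lib.Lie.Chev.E8Spectrum.Sums
import Cfsg.Agent.Lib.Lie.Chev.E8Spectrum.Masks

/-! Vectors multiplied by three by the Weyl group: their normal forms modulo a prime, the search for
the multiplying elements, and the solution of the resulting congruences. -/

set_option autoImplicit false
set_option maxRecDepth 100000
set_option maxHeartbeats 400000

namespace Cfsg.Agent.Lie.Chev.E8Spectrum

open Cfsg.Lie

local notation "c" => certFullE8

/-- The vector of a list. -/
def zI (z : List ℕ) (j : ℕ) : ℤ := (z.getD j 0 : ℤ)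

/-- A Weyl group element multiplies the values by three modulo `m`. -/
def Twisted (m : ℕ) (v : ℕ → ℤ) : Prop :=
  ∃ W : List ℕ, (∀ p ∈ W, p < 8) ∧ ∀ s < 240, fval v ((c).wl W s) ≡ 3 * fval v s [ZMOD m]

theorem Twisted.of_dvd {m r : ℕ} {v : ℕ → ℤ} (h : Twisted m v) (hrm : r ∣ m) : Twisted r v := by
  obtain ⟨W, hW, e⟩ := h
  exact ⟨W, hW, fun s hs => (e s hs).of_dvd (Int.natCast_dvd_natCast.2 hrm)⟩

theorem Twisted.congr {m : ℕ} {v v' : ℕ → ℤ} (h : Twisted m v)
    (hv : ∀ j < 8, v' j ≡ v j [ZMOD m]) : Twisted m v' := by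
  obtain ⟨W, hW, e⟩ := h
  exact ⟨W, hW, fun s hs => ((fval_congr hv _).trans (e s hs)).trans
    ((fval_congr hv s).symm.mul_left 3)⟩

theorem Twisted.pull {m : ℕ} {v : ℕ → ℤ} (h : Twisted m v) {M : List ℕ}
    (hM : ∀ p ∈ M, p < 8) : Twisted m (E8Spectrum.pull M v) := by
  obtain ⟨W, hW, e⟩ := h
  have hMr : ∀ p ∈ M.reverse, p < 8 := fun p hp => hM p (List.mem_reverse.1 hp)
  have hV : ∀ p ∈ M.reverse ++ (W ++ M), p < 8 := fun p hp => by
    rcases List.mem_append.1 hp with hp | hp
    · exact hMr p hp
    rcases List.mem_append.1 hp with hp | hp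
    exacts [hW p hp, hM p hp]
  refine ⟨_, hV, fun s hs => ?_⟩
  have hWM : ∀ p ∈ W ++ M, p < 8 := fun p hp => (List.mem_append.1 hp).elim (hW p) (hM p)
  rw [fval_pull v hM ((c).wl_lt hV hs), fval_pull v hM hs, (c).wl_append,
    (c).wl_reverse hM ((c).wl_lt hWM hs), (c).wl_append]
  exact e _ ((c).wl_lt hM hs)

/-! ### Normal form -/

/-- An indicator of a pair of opposite residues. -/
def ind (r t x : ℕ) : ℕ := bif Nat.beq x t || Nat.beq x ((r - t) % r) then 1 else 0

/-- Tripling changes a weighted count. -/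
noncomputable def witness (r t : ℕ) (z : List ℕ) : Bool :=
  ((List.range r).all fun x => Nat.beq (ind r t x) (ind r t ((r - x) % r)) &&
    Nat.beq (ind r t (3 * x % r)) (ind r t (3 * ((r - x) % r) % r))) &&
  !(Nat.beq (posSum120 (ind r t) r z) (posSum120 (fun x => ind r t (3 * x % r)) r z))

/-- A vector is trivial, one of those listed, or not multiplied by three. -/
noncomputable def kacLeaf (r : ℕ) (tgts : List (List ℕ)) (u : List ℕ) : Bool :=
  (u.all fun a => Nat.beq (a % r) 0) || (tgts.any fun t => decide (u.map (· % r) = t)) ||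
    (List.range r).any fun t => witness r t (u.map (· % r))

/-- Walk over the coordinate vectors of bounded weight. -/
noncomputable def kacFrom (r : ℕ) (tgts : List (List ℕ)) : List ℕ → ℕ → List ℕ → Bool
  | [], _, acc => kacLeaf r tgts acc
  | m :: ms, rem, acc => (List.range (rem + 1)).all fun x =>
      bif Nat.ble (m * x) rem then kacFrom r tgts ms (rem - m * x) (acc ++ [x]) else true

theorem kac_spec {r : ℕ} {tgts : List (List ℕ)} : ∀ {ms : List ℕ}, (∀ m ∈ ms, 0 < m) →
    ∀ {rem : ℕ} {acc v : List ℕ}, kacFrom r tgts ms rem acc = true → v.length = ms.length →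
      (List.zipWith (· * ·) ms v).sum ≤ rem → kacLeaf r tgts (acc ++ v) = true := by
  intro ms
  induction ms with
  | nil =>
    intro _ rem acc v h hl _
    rw [List.length_nil, List.length_eq_zero_iff] at hl
    subst hl
    simpa [kacFrom] using h
  | cons m ms ih =>
    intro hpos rem acc v h hl hsum
    rcases v with _ | ⟨x, v⟩
    · simp at hl
    simp only [List.zipWith_cons_cons, List.sum_cons] at hsum
    simp only [kacFrom, List.all_eq_true, List.mem_range] at h
    have hm : 0 < m := hpos m (by simp)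
    have hxm : x ≤ m * x := Nat.le_mul_of_pos_left x hm
    have h' := h x (by omega)
    rw [show Nat.ble (m * x) rem = true from Nat.ble_eq.mpr (by omega), cond_true] at h'
    have := ih (fun k hk => hpos k (by simp [hk])) h' (by simpa using hl) (by omega)
    simpa using this

theorem pairing_shift (e : ℤ) (v : ℕ → ℤ) (r : ℕ) (j : ℕ) :
    shiftVec ((r : ℤ) * e) v j ≡ v j [ZMOD r] := by
  refine Int.modEq_iff_dvd.2 ⟨-(e * (c).T.pairing 239 ((c).T.simple j)), ?_⟩
  rw [shiftVec]
  ring

/-- Modulo `r`, a vector multiplied by three is trivial or has a listed normal form. -/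
theorem exists_normal {r : ℕ} (hr : 0 < r) (hr2 : r ≤ 256) {tgts : List (List ℕ)}
    (hok : kacFrom r tgts marks r [] = true) {v : ℕ → ℤ} (htw : Twisted r v)
    (hne : ¬ ∀ j < 8, v j ≡ 0 [ZMOD r]) :
    ∃ M : List ℕ, (∀ p ∈ M, p < 8) ∧ ∃ t ∈ tgts, t.length = 8 ∧ (∀ a ∈ t, a < r) ∧
      ∀ j < 8, E8Spectrum.pull M v j ≡ zI t j [ZMOD r] := by
  classical
  obtain ⟨w, ⟨M, hM, hw⟩, hpos, htop⟩ := exists_kac hr
    (P := fun w => ∃ M : List ℕ, (∀ p ∈ M, p < 8) ∧
      ∀ j < 8, w j ≡ E8Spectrum.pull M v j [ZMOD r])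
    ⟨v, [], by simp, fun j hj => by rw [E8Spectrum.pull, Cert.wl_nil, fval_simple v hj]⟩
    (by
      rintro p hp w ⟨M, hM, hw⟩
      have hM' : ∀ q ∈ M ++ [p], q < 8 := fun q hq => (List.mem_append.1 hq).elim (hM q)
        (fun h => by rw [List.mem_singleton] at h; omega)
      refine ⟨M ++ [p], hM', fun j hj => ?_⟩
      have hlt : (c).T.refl p ((c).T.simple j) < 240 :=
        (c).w_lt hp ((c).simple_eq hj ▸ (c).simple_lt hj)
      rw [reflVec, E8Spectrum.pull, (c).wl_append,
        show (c).wl [p] ((c).T.simple j) = (c).T.refl p ((c).T.simple j) from rfl,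
        ← fval_pull v hM hlt]
      exact fval_congr hw _)
    (by
      rintro e w ⟨M, hM, hw⟩
      exact ⟨M, hM, fun j hj => (pairing_shift e w r j).trans (hw j hj)⟩)
  obtain ⟨u, hu⟩ : ∃ u : List ℕ, u = (List.range 8).map fun j => (w j).toNat := ⟨_, rfl⟩
  have hul : u.length = 8 := by rw [hu]; simp
  have hget : ∀ j < 8, (u.getD j 0 : ℤ) = w j := fun j hj => by
    rw [hu, List.getD_eq_getElem _ _ (by simp [hj])]
    simp only [List.getElem_map, List.getElem_range]
    exact Int.toNat_of_nonneg (hpos j hj)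
  have hwt : (List.zipWith (· * ·) marks u).sum ≤ r := by
    have hfv : fval w 239 = ((List.zipWith (· * ·) marks u).sum : ℕ) := by
      rw [hu]
      simp only [fval, Finset.sum_range_succ, Finset.sum_range_zero, List.range_succ,
        List.range_zero, List.nil_append, List.cons_append, List.map_cons, List.map_nil,
        ← marks_vec 0 (by omega), ← marks_vec 1 (by omega), ← marks_vec 2 (by omega),
        ← marks_vec 3 (by omega), ← marks_vec 4 (by omega), ← marks_vec 5 (by omega),
        ← marks_vec 6 (by omega), ← marks_vec 7 (by omega)]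
      simp only [marks, List.getD_cons_zero, List.getD_cons_succ, List.zipWith_cons_cons,
        List.zipWith_nil_left, List.sum_cons, List.sum_nil, Nat.cast_add, Nat.cast_mul,
        Int.toNat_of_nonneg (hpos 0 (by omega)), Int.toNat_of_nonneg (hpos 1 (by omega)),
        Int.toNat_of_nonneg (hpos 2 (by omega)), Int.toNat_of_nonneg (hpos 3 (by omega)),
        Int.toNat_of_nonneg (hpos 4 (by omega)), Int.toNat_of_nonneg (hpos 5 (by omega)),
        Int.toNat_of_nonneg (hpos 6 (by omega)), Int.toNat_of_nonneg (hpos 7 (by omega))]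
      ring
    omega
  have hleaf : kacLeaf r tgts u = true := by
    simpa using kac_spec (by decide) hok (v := u) (by rw [hul]; rfl) hwt
  obtain ⟨z, hzdef⟩ : ∃ z, z = u.map (· % r) := ⟨_, rfl⟩
  have hzl : z.length = 8 := by rw [hzdef, List.length_map, hul]
  have hzlt : ∀ a ∈ z, a < r := fun a ha => by
    rw [hzdef, List.mem_map] at ha
    obtain ⟨b, -, rfl⟩ := ha
    exact Nat.mod_lt _ hr
  have hzv : ∀ j < 8, E8Spectrum.pull M v j ≡ (z.getD j 0 : ℤ) [ZMOD r] := fun j hj => by
    refine (hw j hj).symm.trans ?_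
    rw [← hget j hj, hzdef, List.getD_eq_getElem _ _ (by simp [hul, hj]),
      List.getD_eq_getElem _ _ (by simp [hul, hj]), List.getElem_map, Int.natCast_mod]
    exact (Int.mod_modEq _ _).symm
  rw [kacLeaf, ← hzdef] at hleaf
  simp only [Bool.or_eq_true, List.any_eq_true, List.all_eq_true, Nat.beq_eq,
    decide_eq_true_eq] at hleaf
  rcases hleaf with (hzero | ⟨t, ht, rfl⟩) | ⟨t, -, ht⟩
  · exfalso
    refine hne fun j hj => ?_
    have hz0 : ∀ i < 8, E8Spectrum.pull M v i ≡ 0 [ZMOD r] := fun i hi => by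
      refine (hw i hi).symm.trans (Int.modEq_zero_iff_dvd.2 ?_)
      rw [← hget i hi]
      refine Int.natCast_dvd_natCast.2 (Nat.dvd_of_mod_eq_zero (hzero _ ?_))
      rw [List.getD_eq_getElem _ _ (by rw [hul]; exact hi)]
      exact List.getElem_mem _
    have hMr : ∀ p ∈ M.reverse, p < 8 := fun p hp => hM p (List.mem_reverse.1 hp)
    have hsj : (c).T.simple j < 240 := (c).simple_eq hj ▸ (c).simple_lt hj
    have e := fval_congr (v' := fun _ => 0) hz0 ((c).wl M.reverse ((c).T.simple j))
    rw [fval_pull v hM ((c).wl_lt hMr hsj), (c).wl_reverse hM hsj, fval_simple v hj] at e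
    exact e.trans (by simp [fval])
  · exact ⟨M, hM, z, ht, hzl, hzlt, hzv⟩
  · exfalso
    simp only [witness, Bool.and_eq_true, List.all_eq_true, List.mem_range, Nat.beq_eq,
      Bool.not_eq_true'] at ht
    obtain ⟨hsymm, hne'⟩ := ht
    rw [← Bool.not_eq_true, Nat.beq_eq] at hne'
    refine hne' (Nat.eq_of_mul_eq_mul_left (show 0 < 2 by norm_num) ?_)
    rw [← sum_eq hr hr2 (ind r t) (fun x hx => (hsymm x hx).1) hzl hzlt hzv,
      ← sum_eq hr hr2 (fun x => ind r t (3 * x % r)) (fun x hx => (hsymm x hx).2) hzl hzlt hzv]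
    obtain ⟨W, hW, hWs⟩ := htw.pull hM
    have hWr : ∀ p ∈ W.reverse, p < 8 := fun p hp => hW p (List.mem_reverse.1 hp)
    refine Finset.sum_nbij' (fun s => (c).wl W.reverse s) (fun s => (c).wl W s) ?_ ?_ ?_ ?_ ?_
    · intro s hs; exact Finset.mem_range.2 ((c).wl_lt hWr (Finset.mem_range.1 hs))
    · intro s hs; exact Finset.mem_range.2 ((c).wl_lt hW (Finset.mem_range.1 hs))
    · intro s hs; exact (c).wl_reverse hW (Finset.mem_range.1 hs)
    · intro s hs
      have := (c).wl_reverse hWr (Finset.mem_range.1 hs)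
      rwa [List.reverse_reverse] at this
    · intro s hs
      refine congrArg (ind r t) ?_
      have h0 := (c).wl_lt hWr (Finset.mem_range.1 hs)
      have e := hWs _ h0
      rw [(c).wl_reverse hW (Finset.mem_range.1 hs)] at e
      have h1 := rz_cast hr (E8Spectrum.pull M v) s
      have h2 := rz_cast hr (E8Spectrum.pull M v) ((c).wl W.reverse s)
      have h3 : ((3 * rz r (E8Spectrum.pull M v) ((c).wl W.reverse s) % r : ℕ) : ℤ) =
          (3 * fval (E8Spectrum.pull M v) ((c).wl W.reverse s)) % r := by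
        rw [Int.natCast_mod, Nat.cast_mul, h2]
        exact (Int.mod_modEq _ _).mul_left 3
      exact_mod_cast h1.trans (Eq.trans e h3.symm)

/-! ### Search -/

/-- The roots with a residue that a coordinate requires. -/
def cands (r : ℕ) (z : List ℕ) (mult j : ℕ) : List ℕ :=
  (List.range 240).filter fun x => Nat.beq (resZ r z x) (mult * z.getD j 0 % r)

/-- The required pairings with the earlier images. -/
def colReq (k : ℕ) : List ℕ := (List.range k).map fun j => (cartMat.getD j []).getD k 0

/-- The roots having given pairings with given roots. -/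
def allowed : List ℕ → List ℕ → ℕ
  | a :: acc, t :: ts => Nat.land (maskAt t a) (allowed acc ts)
  | _, _ => 2 ^ 240 - 1

/-- All tuples of candidates keeping the pairings. -/
def srch : List (List ℕ) → List ℕ → List (List ℕ)
  | [], acc => [acc]
  | C :: Cs, acc =>
    (C.filter (bitAt (allowed acc (colReq acc.length)))).flatMap fun x => srch Cs (acc ++ [x])

/-- The images of the fundamental roots under elements multiplying a vector. -/
def search (r : ℕ) (z : List ℕ) (mult : ℕ) : List (List ℕ) :=
  srch ((List.range 8).map (cands r z mult)) []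

theorem testBit_allowed (g h : ℕ → ℕ) {y : ℕ} (hy : y < 240) :
    ∀ l : List ℕ, (∀ i ∈ l, (maskAt (h i) (g i)).testBit y = true) →
      (allowed (l.map g) (l.map h)).testBit y = true
  | [], _ => by
    rw [show allowed (([] : List ℕ).map g) (([] : List ℕ).map h) = 2 ^ 240 - 1 from rfl,
      Nat.testBit_two_pow_sub_one, decide_eq_true hy]
  | i :: l, hl => by
    rw [List.map_cons, List.map_cons, allowed,
      show Nat.land (maskAt (h i) (g i)) (allowed (l.map g) (l.map h)) =
        maskAt (h i) (g i) &&& allowed (l.map g) (l.map h) from rfl,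
      Nat.testBit_and, hl i (by simp), testBit_allowed g h hy l fun j hj => hl j (by simp [hj])]
    rfl

theorem cartMat_off : ∀ j < 8, ∀ k < 8, j ≠ k → (cartMat.getD j []).getD k 0 < 2 := by
  decide +kernel

theorem mem_srch {Cs : List (List ℕ)} {f : ℕ → ℕ} (hf : ∀ q < 8, f q < 240)
    (hp : ∀ j < 8, ∀ k < 8, (c).T.pairing (f j) (f k) =
      (c).T.pairing ((c).T.simple j) ((c).T.simple k)) :
    ∀ {k : ℕ}, k + Cs.length = 8 → (∀ i < Cs.length, f (k + i) ∈ Cs.getD i []) →
      (List.range 8).map f ∈ srch Cs ((List.range k).map f) := by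
  induction Cs with
  | nil =>
    intro k hk _
    rw [List.length_nil, add_zero] at hk
    simp [srch, hk]
  | cons C Cs ih =>
    intro k hk hC
    rw [List.length_cons] at hk
    rw [srch, List.mem_flatMap]
    refine ⟨f k, List.mem_filter.2 ⟨by simpa using hC 0 (by simp), (bitAt_iff _ _).2 ?_⟩, ?_⟩
    · rw [List.length_map, List.length_range, colReq]
      refine testBit_allowed f _ (hf k (by omega)) _ fun j hj => ?_
      rw [List.mem_range] at hj
      refine testBit_maskAt (hf j (by omega)) (hf k (by omega))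
        (cartMat_off j (by omega) k (by omega) (by omega)) ?_
      rw [pairOk_iff (hf j (by omega)) (hf k (by omega)), hp j (by omega) k (by omega),
        cartMat_spec j (by omega) k (by omega)]
    have := ih (k := k + 1) (by omega) fun i hi => by
      have h := hC (i + 1) (by simpa using hi)
      rwa [List.getD_cons_succ, show k + (i + 1) = k + 1 + i by omega] at h
    rwa [List.range_succ, List.map_append, List.map_singleton] at this

/-- The entries of a tuple found are candidates. -/
theorem srch_mem : ∀ {Cs : List (List ℕ)} {acc L : List ℕ}, L ∈ srch Cs acc →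
    ∃ T : List ℕ, L = acc ++ T ∧ T.length = Cs.length ∧ ∀ i < Cs.length, T.getD i 0 ∈ Cs.getD i []
  | [], acc, L, h => by
    rw [srch, List.mem_singleton] at h
    exact ⟨[], by simp [h], rfl, by simp⟩
  | C :: Cs, acc, L, h => by
    rw [srch, List.mem_flatMap] at h
    obtain ⟨x, hx, h⟩ := h
    obtain ⟨T, rfl, hl, hT⟩ := srch_mem h
    refine ⟨x :: T, by simp, by simp [hl], fun i hi => ?_⟩
    rcases i with _ | i
    · simpa using (List.mem_filter.1 hx).1
    · rw [List.getD_cons_succ, List.getD_cons_succ]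
      exact hT i (by simpa using hi)

/-- A strictly increasing list. -/
def incr : List ℕ → Bool
  | a :: b :: L => Nat.blt a b && incr (b :: L)
  | _ => true

theorem incr_pairwise : ∀ {L : List ℕ}, incr L = true → L.Pairwise (· < ·)
  | [], _ => List.Pairwise.nil
  | [a], _ => List.pairwise_singleton _ _
  | a :: b :: L, h => by
    simp only [incr, Bool.and_eq_true, Nat.blt, Nat.ble_eq] at h
    have ih := incr_pairwise h.2
    refine List.pairwise_cons.2 ⟨fun x hx => ?_, ih⟩
    rcases List.mem_cons.1 hx with rfl | hx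
    · exact h.1
    · exact lt_trans (show a < b from h.1) (List.rel_of_pairwise_cons ih hx)

/-- A key of a tuple of roots. -/
def imgKey (L : List ℕ) : ℕ := L.foldl (fun a x => a * 256 + x) 0

/-- A multiplying word's images are found by the search. -/
theorem images_mem {r : ℕ} (hr : 0 < r) (hr2 : r ≤ 256) {z : List ℕ} (hl : z.length = 8)
    (hz : ∀ a ∈ z, a < r) {mult : ℕ} {W : List ℕ} (hW : ∀ p ∈ W, p < 8)
    (h : ∀ j < 8, fval (zI z) ((c).wl W ((c).T.simple j)) ≡ (mult : ℤ) * zI z j [ZMOD r]) :
    (List.range 8).map (fun q => (c).wl W ((c).T.simple q)) ∈ search r z mult := by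
  have hsl : ∀ q < 8, (c).T.simple q < 240 := fun q hq => (c).simple_eq hq ▸ (c).simple_lt hq
  have := mem_srch (Cs := (List.range 8).map (cands r z mult))
    (f := fun q => (c).wl W ((c).T.simple q))
    (fun q hq => (c).wl_lt hW (hsl q hq))
    (fun j hj k hk => (c).pairing_wl hW (hsl j hj) (hsl k hk)) (k := 0) (by simp) fun i hi => by
      have hi' : i < 8 := by simpa using hi
      rw [List.getD_eq_getElem _ _ hi, List.getElem_map, List.getElem_range, zero_add, cands,
        List.mem_filter]
      refine ⟨List.mem_range.2 ((c).wl_lt hW (hsl i hi')), Nat.beq_eq.mpr ?_⟩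
      rw [resZ_eq hr hr2 hl hz (v := zI z) (fun j _ => rfl) ((c).wl_lt hW (hsl i hi'))]
      have h1 := rz_cast hr (zI z) ((c).wl W ((c).T.simple i))
      have h2 : ((mult * z.getD i 0 % r : ℕ) : ℤ) = ((mult : ℤ) * zI z i) % r := by
        rw [Int.natCast_mod, Nat.cast_mul, zI]
      exact_mod_cast h1.trans (Eq.trans (h i hi') h2.symm)
  simpa [search] using this

end Cfsg.Agent.Lie.Chev.E8Spectrum
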