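import Cfsg.Agent.Lib.Lie.Chev.E8Spectrum.Vec

/-! Residues of an integer vector at the roots of type E₈, weighted counts of them, and the
certificates comparing these with the weights of twisted tensor products. -/

set_option autoImplicit false
set_option maxRecDepth 100000
set_option maxHeartbeats 400000

namespace Cfsg.Agent.Lie.Chev.E8Spectrum

open Cfsg.Lie

local notation "c" => certFullE8

/-- The residue of a value. -/
def rz (m : ℕ) (v : ℕ → ℤ) (s : ℕ) : ℕ := (fval v s % m).toNat

theorem rz_cast {m : ℕ} (hm : 0 < m) (v : ℕ → ℤ) (s : ℕ) : (rz m v s : ℤ) = fval v s % m :=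
  Int.toNat_of_nonneg (Int.emod_nonneg _ (by omega))

theorem rz_lt {m : ℕ} (hm : 0 < m) (v : ℕ → ℤ) (s : ℕ) : rz m v s < m := by
  have := rz_cast hm v s
  have := Int.emod_lt_of_pos (fval v s) (show (0 : ℤ) < m by omega)
  omega

theorem rz_congr {m : ℕ} {v v' : ℕ → ℤ} {s s' : ℕ} (h : fval v s ≡ fval v' s' [ZMOD m]) :
    rz m v s = rz m v' s' := congrArg Int.toNat h

/-- The residue of a value, computed. -/
def resZ (m : ℕ) (z : List ℕ) (x : ℕ) : ℕ := (dot (bAt x) (encR z) + (64 * m - 8 * z.sum)) % m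

/-- The sum over a list of records. -/
noncomputable def walk (g : ℕ → ℕ) (m Z K : ℕ) (l : List ℕ) : ℕ :=
  List.rec 0 (fun b _ ih => Nat.add (g (Nat.mod (Nat.add
    (Nat.mod (Nat.shiftRight (Nat.mul b Z) 112) 65536) K) m)) ih) l

/-- The sum over the positive roots. -/
noncomputable def posSum120 (g : ℕ → ℕ) (m : ℕ) (z : List ℕ) : ℕ :=
  walk g m (encR z) (64 * m - 8 * z.sum) posRecs

theorem posRecs_eq : posRecs = (List.range 120).map fun i => bAt (120 + i) := by decide +kernel

theorem walk_eq (g : ℕ → ℕ) (m Z K : ℕ) :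
    ∀ l : List ℕ, walk g m Z K l = (l.map fun b => g ((dot b Z + K) % m)).sum
  | [] => rfl
  | b :: l => by
    rw [List.map_cons, List.sum_cons, ← walk_eq g m Z K l]
    rfl

theorem sum_getD (z : List ℕ) (hl : z.length = 8) :
    ∑ i ∈ Finset.range 8, z.getD i 0 = z.sum := by
  rcases z with _ | ⟨a, _ | ⟨b', _ | ⟨d, _ | ⟨e, _ | ⟨g, _ | ⟨h', _ | ⟨i, _ | ⟨j, _ | ⟨k, z⟩⟩⟩⟩⟩⟩⟩⟩⟩ <;>
    first
      | (simp only [List.length_cons, List.length_nil] at hl; omega)
      | (simp [Finset.sum_range_succ]; ring)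

theorem sum_le (z : List ℕ) {m : ℕ} (hz : ∀ a ∈ z, a < m) : z.sum ≤ z.length * m := by
  refine (List.sum_le_card_nsmul z m fun a ha => (hz a ha).le).trans ?_
  rw [smul_eq_mul]

/-- The scalar product with a root. -/
theorem dot_vec {m : ℕ} (hm2 : m ≤ 256) {z : List ℕ} (hl : z.length = 8) (hz : ∀ a ∈ z, a < m)
    {x : ℕ} (hx : x < 240) :
    (dot (bAt x) (encR z) : ℤ) = fval (fun j => (z.getD j 0 : ℤ)) x + 8 * (z.sum : ℤ) := by
  rw [dot_spec (bAt_lt x) (fun i hi => (bAt_spec x hx i hi).1) z hl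
    (fun a ha => lt_of_lt_of_le (hz a ha) hm2), Nat.cast_sum, fval]
  have hs : (8 : ℤ) * (z.sum : ℤ) = ∑ i ∈ Finset.range 8, 8 * (z.getD i 0 : ℤ) := by
    rw [← sum_getD z hl, Nat.cast_sum, Finset.mul_sum]
  rw [hs, ← Finset.sum_add_distrib]
  refine Finset.sum_congr rfl fun i hi => ?_
  rw [Nat.cast_mul, (bAt_spec x hx i (Finset.mem_range.1 hi)).2]
  ring

theorem resZ_eq {m : ℕ} (hm : 0 < m) (hm2 : m ≤ 256) {z : List ℕ} (hl : z.length = 8)
    (hz : ∀ a ∈ z, a < m) {v : ℕ → ℤ} (hv : ∀ j < 8, v j ≡ (z.getD j 0 : ℤ) [ZMOD m]) {x : ℕ}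
    (hx : x < 240) : resZ m z x = rz m v x := by
  have hsum : z.sum ≤ 8 * m := hl ▸ sum_le z hz
  have h1 := rz_cast hm v x
  have h2 := fval_congr hv x
  have h3 : ((resZ m z x : ℕ) : ℤ) = (fval (fun j => (z.getD j 0 : ℤ)) x + 64 * (m : ℤ)) % m := by
    rw [resZ, Int.natCast_mod, Nat.cast_add, Nat.cast_sub (by omega), dot_vec hm2 hl hz hx]
    congr 1
    push_cast
    ring
  rw [Int.add_mul_emod_self_right] at h3
  rw [Int.ModEq] at h2
  rw [← h1.trans h2] at h3
  exact_mod_cast h3

theorem fval_neg (v : ℕ → ℤ) {i : ℕ} (hi : i < 120) : fval v (119 - i) = -fval v (120 + i) := by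
  rw [fval, fval, ← Finset.sum_neg_distrib]
  exact Finset.sum_congr rfl fun j hj => by rw [vec_neg i hi j (Finset.mem_range.1 hj), neg_mul]

/-- A symmetric weight sums to twice its sum over the positive roots. -/
theorem sum_eq {m : ℕ} (hm : 0 < m) (hm2 : m ≤ 256) (g : ℕ → ℕ)
    (hg : ∀ t < m, g t = g ((m - t) % m)) {z : List ℕ} (hl : z.length = 8) (hz : ∀ a ∈ z, a < m)
    {v : ℕ → ℤ} (hv : ∀ j < 8, v j ≡ (z.getD j 0 : ℤ) [ZMOD m]) :
    ∑ s ∈ Finset.range 240, g (rz m v s) = 2 * posSum120 g m z := by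
  have hpos : posSum120 g m z = ∑ i ∈ Finset.range 120, g (rz m v (120 + i)) := by
    rw [posSum120, walk_eq, posRecs_eq, List.map_map, ← List.sum_toFinset _ List.nodup_range,
      List.toFinset_range]
    exact Finset.sum_congr rfl fun i hi => congrArg g
      (resZ_eq hm hm2 hl hz hv (by rw [Finset.mem_range] at hi; omega))
  rw [hpos, show (240 : ℕ) = 120 + 120 from rfl, Finset.sum_range_add, two_mul]
  refine congrArg₂ (· + ·) ?_ rfl
  rw [← Finset.sum_range_reflect (fun s => g (rz m v s)) 120]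
  refine Finset.sum_congr rfl fun i hi => ?_
  have hi' := Finset.mem_range.1 hi
  rw [show 120 - 1 - i = 119 - i from rfl, hg _ (rz_lt hm v (120 + i))]
  refine congrArg g ?_
  have h1 := rz_cast hm v (119 - i)
  have h2 := rz_cast hm v (120 + i)
  have h3 := rz_lt hm v (120 + i)
  rw [fval_neg v hi'] at h1
  have h4 : (((m - rz m v (120 + i)) % m : ℕ) : ℤ) = (-fval v (120 + i)) % m := by
    rw [Int.natCast_mod, Nat.cast_sub h3.le, h2]
    exact ((Int.ModEq.refl (m : ℤ)).sub (Int.mod_modEq _ _)).trans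
      (Int.modEq_iff_dvd.2 ⟨-1, by ring⟩)
  exact_mod_cast h1.trans h4.symm

/-! ### Representations -/

/-- The digit lists of length `k`. -/
def allD : ℕ → List (List ℕ)
  | 0 => [[]]
  | k + 1 => (List.range 3).flatMap fun a => (allD k).map fun d => a :: d

/-- The number with given digits. -/
def numL : List ℕ → ℕ
  | [] => 0
  | a :: d => a + 3 * numL d

/-- The numbers below, digit by digit. -/
def numsL : List ℕ → List ℕ
  | [] => [0]
  | a :: d => (List.range (a + 1)).flatMap fun e => (numsL d).map fun n => e + 3 * n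

/-- The dimension. -/
def dimL : List ℕ → ℕ
  | [] => 1
  | a :: d => (a + 1) * dimL d

theorem length_numsL : ∀ d, (numsL d).length = dimL d
  | [] => rfl
  | a :: d => by simp [numsL, dimL, List.length_flatMap, length_numsL d]

/-- The residue of half a weight. -/
def rs (m h n : ℕ) : ℕ := Nat.mod (Nat.sub (Nat.add h (Nat.mul 729 m)) n) m

/-- The number of even half weights. -/
noncomputable def evs (h : ℕ) (L : List ℕ) : ℕ :=
  List.rec 0 (fun n _ ih => Nat.add (Nat.sub 1 (Nat.mod (Nat.add h n) 2)) ih) L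

/-- A weighted sum of residues. -/
noncomputable def resSum (g : ℕ → ℕ) (m h : ℕ) (L : List ℕ) : ℕ :=
  List.rec 0 (fun n _ ih => Nat.add (g (rs m h n)) ih) L

/-- A certificate: a weight on residues, with an offset, and one on parities. -/
structure Weight where
  /-- packed values -/
  lam : ℕ
  /-- offset -/
  off : ℕ
  /-- positive part on evens -/
  mp : ℕ
  /-- negative part on evens -/
  mn : ℕ

/-- A value. -/
def Weight.at' (C : Weight) (t : ℕ) : ℕ := Nat.mod (Nat.shiftRight C.lam (Nat.mul 8 t)) 256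

/-- The weight is symmetric and periodic. -/
def symOk (r m : ℕ) (C : Weight) : Bool :=
  (List.range m).all fun t => Nat.beq (C.at' t) (C.at' ((m - t) % m)) && Nat.beq (C.at' t) (C.at' (t % r))

/-- The weight is nonnegative on one product. -/
noncomputable def repOne (m : ℕ) (C : Weight) (d : List ℕ) (h : ℕ) : Bool :=
  Nat.ble (C.off * dimL d + C.mn * evs h (numsL d))
    (resSum C.at' m h (numsL d) + C.mp * evs h (numsL d))

/-- The weight is nonnegative on all products of dimension at most 248. -/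
noncomputable def repOk (k m : ℕ) (C : Weight) : Bool :=
  (allD k).all fun d => !(Nat.beq (numL d % 2) 0) || !(Nat.ble (dimL d) 248) ||
    repOne m C d (numL d / 2)

/-- The bound on the weighted count for some fixed dimensions. -/
def bound (C : Weight) : List ℕ → ℕ
  | [] => 0
  | [n] => 248 * C.off + C.mn * n - C.mp * n
  | n :: L => min (248 * C.off + C.mn * n - C.mp * n) (bound C L)

theorem bound_le (C : Weight) : ∀ {L : List ℕ} {n : ℕ}, n ∈ L →
    bound C L ≤ 248 * C.off + C.mn * n - C.mp * n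
  | [], n, h => by simp at h
  | [a], n, h => by
    rw [List.mem_singleton] at h
    subst h
    rfl
  | a :: b :: L, n, h => by
    rw [bound.eq_3 _ _ _ (by simp)]
    rcases List.mem_cons.1 h with rfl | h
    · exact min_le_left _ _
    · exact (min_le_right _ _).trans (bound_le C h)

/-- The weight is negative on a vector. -/
noncomputable def tgtOk (r : ℕ) (C : Weight) (z nfs : List ℕ) : Bool :=
  Nat.blt (8 * C.at' 0 + 2 * posSum120 C.at' r z) (bound C nfs)

/-- A list of products with the spectrum of a vector modulo `m` and a number of evens. -/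
structure Fits (k m : ℕ) (l : List (List ℕ)) (v : ℕ → ℤ) (nf : ℕ) : Prop where
  shape : ∀ d ∈ l, d ∈ allD k ∧ numL d % 2 = 0
  count : ∀ g : ℕ → ℕ, (l.map fun d => resSum g m (numL d / 2) (numsL d)).sum =
    8 * g 0 + ∑ s ∈ Finset.range 240, g (rz m v s)
  even : (l.map fun d => evs (numL d / 2) (numsL d)).sum = nf

theorem resSum_one (m h : ℕ) : ∀ L : List ℕ, resSum (fun _ => 1) m h L = L.length
  | [] => rfl
  | n :: L => by
    rw [List.length_cons, ← resSum_one m h L, add_comm]
    rfl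

theorem Fits.congr {k m nf : ℕ} {l : List (List ℕ)} {v v' : ℕ → ℤ} (h : Fits k m l v nf)
    (hv : ∀ j < 8, v' j ≡ v j [ZMOD m]) : Fits k m l v' nf :=
  ⟨h.shape, fun g => (h.count g).trans (congrArg (8 * g 0 + ·) (Finset.sum_congr rfl fun s _ =>
    congrArg g (rz_congr (fval_congr (fun j hj => (hv j hj).symm) s)))), h.even⟩

theorem Fits.pull {k m nf : ℕ} {l : List (List ℕ)} {v : ℕ → ℤ} (h : Fits k m l v nf) {M : List ℕ}
    (hM : ∀ p ∈ M, p < 8) : Fits k m l (E8Spectrum.pull M v) nf := by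
  refine ⟨h.shape, fun g => (h.count g).trans (congrArg (8 * g 0 + ·) ?_), h.even⟩
  have hr : ∀ p ∈ M.reverse, p < 8 := fun p hp => hM p (List.mem_reverse.1 hp)
  refine Finset.sum_nbij' (fun s => (c).wl M.reverse s) (fun s => (c).wl M s) ?_ ?_ ?_ ?_ ?_
  · intro s hs; exact Finset.mem_range.2 ((c).wl_lt hr (Finset.mem_range.1 hs))
  · intro s hs; exact Finset.mem_range.2 ((c).wl_lt hM (Finset.mem_range.1 hs))
  · intro s hs; exact (c).wl_reverse hM (Finset.mem_range.1 hs)
  · intro s hs
    have := (c).wl_reverse hr (Finset.mem_range.1 hs)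
    rwa [List.reverse_reverse] at this
  · intro s hs
    refine congrArg g (rz_congr ?_)
    rw [fval_pull v hM ((c).wl_lt hr (Finset.mem_range.1 hs)),
      (c).wl_reverse hM (Finset.mem_range.1 hs)]

/-- A certificate excludes a spectrum. -/
theorem false_of_weight {k m r nf : ℕ} {C : Weight} {z nfs : List ℕ} {l : List (List ℕ)}
    {v : ℕ → ℤ} (hr : 0 < r) (hm : 0 < m) (hm2 : m ≤ 256) (hrm : r ∣ m)
    (hrep : repOk k m C = true) (hsym : symOk r m C = true) (htgt : tgtOk r C z nfs = true)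
    {n : ℕ} (hn : n ∈ nfs) (hnf : n = nf ∨ C.mp = 0 ∧ C.mn = 0) (hl : z.length = 8)
    (hz : ∀ a ∈ z, a < r) (hfit : Fits k m l v nf)
    (hv : ∀ j < 8, v j ≡ (z.getD j 0 : ℤ) [ZMOD r]) : False := by
  simp only [repOk, List.all_eq_true, Bool.or_eq_true, Bool.not_eq_true', repOne, Nat.ble_eq] at hrep
  simp only [symOk, List.all_eq_true, Bool.and_eq_true, Nat.beq_eq, List.mem_range] at hsym
  rw [tgtOk, Nat.blt, Nat.ble_eq] at htgt
  have hdim : (l.map fun d => dimL d).sum = 248 := by
    have h := hfit.count fun _ => 1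
    simp only [resSum_one, length_numsL] at h
    simpa using h
  have hall : ∀ d ∈ l, C.off * dimL d + C.mn * evs (numL d / 2) (numsL d) ≤
      resSum C.at' m (numL d / 2) (numsL d) + C.mp * evs (numL d / 2) (numsL d) := by
    intro d hd
    obtain ⟨h1, h2⟩ := hfit.shape d hd
    have hle : dimL d ≤ 248 := hdim ▸ List.le_sum_of_mem (List.mem_map.2 ⟨d, hd, rfl⟩)
    rcases hrep d h1 with (h | h) | h
    · rw [← Bool.not_eq_true, Nat.beq_eq] at h; exact absurd h2 h
    · rw [← Bool.not_eq_true, Nat.ble_eq] at h; exact absurd hle h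
    · exact h
  have hsum := List.sum_le_sum hall
  simp only [List.sum_map_add, List.sum_map_mul_left, hdim, hfit.even, hfit.count] at hsum
  have hS : ∑ s ∈ Finset.range 240, C.at' (rz m v s) = 2 * posSum120 C.at' r z := by
    rw [← sum_eq hr (le_trans (Nat.le_of_dvd hm hrm) hm2) C.at'
      (fun t ht => by
        have hrm' := Nat.le_of_dvd hm hrm
        have h := hsym t (lt_of_lt_of_le ht hrm')
        rw [h.1, (hsym _ (Nat.mod_lt _ hm)).2]
        rcases Nat.eq_zero_or_pos t with rfl | ht0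
        · simp
        · rw [Nat.mod_eq_of_lt (show m - t < m by omega)]
          obtain ⟨q, rfl⟩ := hrm
          congr 1
          rcases q with _ | q
          · simp at hm
          · rw [Nat.mul_succ, Nat.add_sub_assoc ht.le, Nat.mul_add_mod])
      hl hz hv]
    refine Finset.sum_congr rfl fun s _ => ?_
    rw [(hsym _ (rz_lt hm v s)).2]
    congr 1
    have h1 := rz_cast hm v s
    have h2 := rz_cast hr v s
    have h3 : ((rz m v s % r : ℕ) : ℤ) = (rz r v s : ℤ) := by
      rw [Int.natCast_mod, h1, h2, Int.emod_emod_of_dvd _ (Int.natCast_dvd_natCast.2 hrm)]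
    exact_mod_cast h3
  rw [hS] at hsum
  have hb := bound_le C hn
  rcases hnf with rfl | ⟨h1, h2⟩
  · omega
  · rw [h1, h2] at hb hsum
    omega

end Cfsg.Agent.Lie.Chev.E8Spectrum
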