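import Cfsg.Agent.Lib.Lie.Chev.E8Spectrum.Tables

/-! Integer vectors as functions on the roots of type E₈: the action of the Weyl group, and a
representative of bounded Kac weight modulo `r`. -/

set_option autoImplicit false
set_option maxRecDepth 100000

namespace Cfsg.Agent.Lie.Chev.E8Spectrum

open Cfsg.Lie

local notation "c" => certFullE8

theorem pairing_vec : ∀ s < 240, (c).T.pairing 239 s =
    ((List.range 8).map fun j => (c).T.vec s j * (c).T.pairing 239 ((c).T.simple j)).sum := by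
  decide +kernel

theorem norm_vec : ∀ j < 8,
    ((List.range 240).map fun s => (c).T.pairing 239 s * (c).T.vec s j).sum =
      60 * (c).T.vec 239 j := by decide +kernel

theorem norm_self : ((List.range 240).map fun s => (c).T.pairing 239 s ^ 2).sum = 120 := by
  decide +kernel

theorem vec_refl : ∀ p < 8, ∀ s < 240, ∀ k < 8, (c).T.vec ((c).T.refl p s) k =
    ((List.range 8).map fun j =>
      (c).T.vec s j * (c).T.vec ((c).T.refl p ((c).T.simple j)) k).sum := by decide +kernel

theorem height_refl : ∀ p < 8, ∀ k < 8,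
    ((List.range' 120 120).map fun s => (c).T.vec ((c).T.refl p s) k).sum =
      ((List.range' 120 120).map fun s => (c).T.vec s k).sum - (if k = p then 2 else 0) := by
  decide +kernel

/-- The marks of the highest root. -/
def marks : List ℕ := [2, 3, 4, 6, 5, 4, 3, 2]

theorem marks_vec : ∀ j < 8, ((marks.getD j 0 : ℕ) : ℤ) = (c).T.vec 239 j := by decide +kernel

theorem vec_simple : ∀ p < 8, ∀ j < 8,
    (c).T.vec ((c).T.simple p) j = if j = p then 1 else 0 := by decide +kernel

theorem list_sum_range (f : ℕ → ℤ) : ∀ n, ((List.range n).map f).sum = ∑ j ∈ Finset.range n, f j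
  | 0 => by simp
  | n + 1 => by
    rw [List.range_succ, List.map_append, List.sum_append, Finset.sum_range_succ, list_sum_range f n]
    simp

/-- The value of a coordinate function at a root. -/
def fval (v : ℕ → ℤ) (s : ℕ) : ℤ := ∑ j ∈ Finset.range 8, (c).T.vec s j * v j


theorem fval_simple (v : ℕ → ℤ) {p : ℕ} (hp : p < 8) : fval v ((c).T.simple p) = v p := by
  rw [fval, Finset.sum_eq_single p]
  · rw [vec_simple p hp p hp, if_pos rfl, one_mul]
  · intro j hj hjp
    rw [vec_simple p hp j (Finset.mem_range.1 hj), if_neg hjp, zero_mul]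
  · intro h; exact absurd (Finset.mem_range.2 hp) h

/-- The reflected vector. -/
def reflVec (p : ℕ) (v : ℕ → ℤ) (j : ℕ) : ℤ := fval v ((c).T.refl p ((c).T.simple j))

theorem fval_reflVec {p : ℕ} (hp : p < 8) (v : ℕ → ℤ) {s : ℕ} (hs : s < 240) :
    fval (reflVec p v) s = fval v ((c).T.refl p s) := by
  simp only [fval, reflVec, Finset.mul_sum]
  rw [Finset.sum_comm]
  refine Finset.sum_congr rfl fun k hk => ?_
  rw [vec_refl p hp s hs k (Finset.mem_range.1 hk), list_sum_range, Finset.sum_mul]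
  exact Finset.sum_congr rfl fun j _ => by ring

/-- The shift by a multiple of the coroot of the highest root. -/
def shiftVec (e : ℤ) (v : ℕ → ℤ) (j : ℕ) : ℤ := v j + e * (c).T.pairing 239 ((c).T.simple j)

theorem fval_shiftVec (e : ℤ) (v : ℕ → ℤ) {s : ℕ} (hs : s < 240) :
    fval (shiftVec e v) s = fval v s + e * (c).T.pairing 239 s := by
  rw [pairing_vec s hs, list_sum_range, fval, fval, Finset.mul_sum, ← Finset.sum_add_distrib]
  exact Finset.sum_congr rfl fun j _ => by rw [shiftVec]; ring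

/-- The sum of the squares of the values. -/
def sqSum (v : ℕ → ℤ) : ℤ := ∑ s ∈ Finset.range 240, fval v s ^ 2

/-- The sum of the values at the positive roots. -/
def posSum (v : ℕ → ℤ) : ℤ := ∑ j ∈ Finset.range 8,
  (((List.range' 120 120).map fun s => (c).T.vec s j).sum) * v j

theorem sqSum_reflVec {p : ℕ} (hp : p < 8) (v : ℕ → ℤ) : sqSum (reflVec p v) = sqSum v := by
  refine Finset.sum_nbij' (fun s => (c).w p s) (fun s => (c).w p s) ?_ ?_ ?_ ?_ ?_
  · intro s hs; exact Finset.mem_range.2 ((c).w_lt hp (Finset.mem_range.1 hs))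
  · intro s hs; exact Finset.mem_range.2 ((c).w_lt hp (Finset.mem_range.1 hs))
  · intro s hs; exact (c).w_w hp (Finset.mem_range.1 hs)
  · intro s hs; exact (c).w_w hp (Finset.mem_range.1 hs)
  · intro s hs; rw [fval_reflVec hp v (Finset.mem_range.1 hs)]; rfl

theorem list_sum_mul (f : ℕ → ℕ → ℤ) (v : ℕ → ℤ) : ∀ L : List ℕ,
    ((L.map fun s => ∑ j ∈ Finset.range 8, f s j * v j)).sum =
      ∑ j ∈ Finset.range 8, (L.map fun s => f s j).sum * v j
  | [] => by simp
  | a :: L => by
    rw [List.map_cons, List.sum_cons, list_sum_mul f v L, ← Finset.sum_add_distrib]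
    exact Finset.sum_congr rfl fun j _ => by rw [List.map_cons, List.sum_cons]; ring

theorem posSum_eq (v : ℕ → ℤ) : posSum v = ((List.range' 120 120).map fun s => fval v s).sum :=
  (list_sum_mul (fun s j => (c).T.vec s j) v _).symm

theorem posSum_reflVec {p : ℕ} (hp : p < 8) (v : ℕ → ℤ) :
    posSum (reflVec p v) = posSum v - 2 * v p := by
  rw [posSum_eq (reflVec p v), List.map_congr_left (g := fun s => fval v ((c).T.refl p s))
    fun s hs => fval_reflVec hp v (by rw [List.mem_range'_1] at hs; omega)]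
  show ((List.range' 120 120).map fun s => ∑ j ∈ Finset.range 8,
    (c).T.vec ((c).T.refl p s) j * v j).sum = _
  rw [list_sum_mul (fun s j => (c).T.vec ((c).T.refl p s) j), posSum, eq_sub_iff_add_eq]
  have hd : 2 * v p = ∑ j ∈ Finset.range 8, (if j = p then 2 else 0) * v j := by
    rw [Finset.sum_eq_single p (fun j _ hj => by simp [hj])
      (fun h => absurd (Finset.mem_range.2 hp) h), if_pos rfl]
  rw [hd, ← Finset.sum_add_distrib]
  refine Finset.sum_congr rfl fun j hj => ?_
  rw [height_refl p hp j (Finset.mem_range.1 hj)]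
  ring

theorem sqSum_shiftVec (e : ℤ) (v : ℕ → ℤ) :
    sqSum (shiftVec e v) = sqSum v + 120 * e * fval v 239 + 120 * e ^ 2 := by
  have hcross : ∑ s ∈ Finset.range 240, fval v s * (c).T.pairing 239 s = 60 * fval v 239 := by
    simp only [fval, Finset.sum_mul, Finset.mul_sum]
    rw [Finset.sum_comm]
    refine Finset.sum_congr rfl fun j hj => ?_
    rw [← mul_assoc, ← norm_vec j (Finset.mem_range.1 hj), list_sum_range, Finset.sum_mul]
    exact Finset.sum_congr rfl fun s _ => by ring
  have hself : ∑ s ∈ Finset.range 240, (c).T.pairing 239 s ^ 2 = 120 := by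
    rw [← list_sum_range]; exact norm_self
  have e1 : sqSum (shiftVec e v) = ∑ s ∈ Finset.range 240,
      (fval v s ^ 2 + 2 * e * (fval v s * (c).T.pairing 239 s) + e ^ 2 * (c).T.pairing 239 s ^ 2) :=
    Finset.sum_congr rfl fun s hs => by rw [fval_shiftVec e v (Finset.mem_range.1 hs)]; ring
  rw [e1, Finset.sum_add_distrib, Finset.sum_add_distrib, ← Finset.mul_sum, ← Finset.mul_sum, hcross,
    hself, sqSum]
  ring

theorem posSum_le (v : ℕ → ℤ) : posSum v ≤ sqSum v := by
  rw [posSum_eq, sqSum]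
  have h : ∀ L : List ℕ, L.Nodup → (∀ s ∈ L, s < 240) →
      (L.map fun s => fval v s).sum ≤ ∑ s ∈ L.toFinset, fval v s ^ 2 := by
    intro L hL _
    rw [← List.sum_toFinset _ hL]
    exact Finset.sum_le_sum fun s _ => Int.le_self_sq _
  refine (h _ List.nodup_range' fun s hs => by rw [List.mem_range'_1] at hs; omega).trans ?_
  refine Finset.sum_le_sum_of_subset_of_nonneg (fun s hs => ?_) fun s _ _ => sq_nonneg _
  rw [List.mem_toFinset, List.mem_range'_1] at hs
  exact Finset.mem_range.2 (by omega)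

/-- A set of coordinate functions closed under reflection and shift contains one of Kac weight at
most `r`. -/
theorem exists_kac {r : ℕ} (hr : 0 < r) {P : (ℕ → ℤ) → Prop} (h0 : ∃ v, P v)
    (hrefl : ∀ p < 8, ∀ v, P v → P (reflVec p v))
    (hshift : ∀ e : ℤ, ∀ v, P v → P (shiftVec ((r : ℤ) * e) v)) :
    ∃ v, P v ∧ (∀ j < 8, 0 ≤ v j) ∧ fval v 239 ≤ r := by
  classical
  have hnn : ∀ v, 0 ≤ sqSum v := fun v => Finset.sum_nonneg fun s _ => sq_nonneg _
  have hQ : ∃ n : ℕ, ∃ v, P v ∧ sqSum v = n := by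
    obtain ⟨v, hv⟩ := h0
    exact ⟨(sqSum v).toNat, v, hv, (Int.toNat_of_nonneg (hnn v)).symm⟩
  obtain ⟨m, hm, hmin⟩ : ∃ m, (∃ v, P v ∧ sqSum v = (m : ℕ)) ∧
      ∀ w, P w → (m : ℤ) ≤ sqSum w := by
    refine ⟨Nat.find hQ, Nat.find_spec hQ, fun w hw => ?_⟩
    have h := Nat.find_min' hQ ⟨w, hw, (Int.toNat_of_nonneg (hnn w)).symm⟩
    have := Int.toNat_of_nonneg (hnn w)
    omega
  obtain ⟨v₀, hv₀, hq₀⟩ := hm
  have hH : ∃ n : ℕ, ∃ v, P v ∧ sqSum v = m ∧ (m : ℤ) - posSum v = n := by
    refine ⟨((m : ℤ) - posSum v₀).toNat, v₀, hv₀, hq₀, (Int.toNat_of_nonneg ?_).symm⟩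
    have := posSum_le v₀
    omega
  obtain ⟨v, hv, hq, hh⟩ := Nat.find_spec hH
  refine ⟨v, hv, fun p hp => ?_, ?_⟩
  · by_contra hneg
    have hq' := sqSum_reflVec hp v
    have hle := posSum_le (reflVec p v)
    have hp' := posSum_reflVec hp v
    have h := Nat.find_min' hH ⟨reflVec p v, hrefl p hp v hv, hq'.trans hq,
      (Int.toNat_of_nonneg (show (0 : ℤ) ≤ (m : ℤ) - posSum (reflVec p v) by omega)).symm⟩
    have := Int.toNat_of_nonneg (show (0 : ℤ) ≤ (m : ℤ) - posSum (reflVec p v) by omega)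
    omega
  · have h1 := hmin _ (hshift (-1) v hv)
    have h2 := sqSum_shiftVec ((r : ℤ) * -1) v
    nlinarith

/-- The pullback along a word. -/
def pull (M : List ℕ) (v : ℕ → ℤ) (j : ℕ) : ℤ := fval v ((c).wl M ((c).T.simple j))

theorem fval_congr {m : ℤ} {v v' : ℕ → ℤ} (h : ∀ j < 8, v j ≡ v' j [ZMOD m]) (s : ℕ) :
    fval v s ≡ fval v' s [ZMOD m] := by
  simp only [fval, Finset.sum_range_succ, Finset.sum_range_zero]
  exact ((((((((Int.ModEq.refl _).add ((h 0 (by omega)).mul_left _)).add
    ((h 1 (by omega)).mul_left _)).add ((h 2 (by omega)).mul_left _)).add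
    ((h 3 (by omega)).mul_left _)).add ((h 4 (by omega)).mul_left _)).add
    ((h 5 (by omega)).mul_left _)).add ((h 6 (by omega)).mul_left _)).add
    ((h 7 (by omega)).mul_left _)

theorem fval_ext {v v' : ℕ → ℤ} (h : ∀ j < 8, v j = v' j) (s : ℕ) : fval v s = fval v' s :=
  Finset.sum_congr rfl fun j hj => by rw [h j (Finset.mem_range.1 hj)]

theorem fval_pull (v : ℕ → ℤ) : ∀ {M : List ℕ}, (∀ p ∈ M, p < 8) → ∀ {s : ℕ}, s < 240 →
    fval (pull M v) s = fval v ((c).wl M s) := by
  intro M
  induction M using List.reverseRecOn with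
  | nil =>
    intro _ s _
    rw [Cert.wl_nil]
    exact fval_ext (fun j hj => by rw [pull, Cert.wl_nil, fval_simple v hj]) s
  | append_singleton M p ih =>
    intro hM s hs
    have hp : p < 8 := hM p (by simp)
    have hM' : ∀ q ∈ M, q < 8 := fun q hq => hM q (by simp [hq])
    have e : ∀ t, (c).wl (M ++ [p]) t = (c).wl M ((c).T.refl p t) := fun t => by
      rw [(c).wl_append]; rfl
    have hlt : (c).T.refl p s < 240 := (c).w_lt hp hs
    rw [e, ← ih hM' hlt, ← fval_reflVec hp (pull M v) hs]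
    refine fval_ext (fun j hj => ?_) s
    have hj' : (c).T.refl p ((c).T.simple j) < 240 := (c).w_lt hp ((c).simple_eq hj ▸ (c).simple_lt hj)
    rw [pull, e, reflVec, ← ih hM' hj']

end Cfsg.Agent.Lie.Chev.E8Spectrum
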